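import Cfsg.Agent.Lib.Invol.Suz.Loc.UFour.Raw
import Cfsg.Agent.Lib.Grp.Quasisimple
import Cfsg.Agent.S0283

/-!
# The centralizer of one rotation is quasisimple
-/

set_option autoImplicit false
set_option linter.unusedSectionVars false
set_option linter.style.haveILetI false

namespace Cfsg.Agent.Invol.Suz.Loc.Three

open Cfsg Cfsg.Agent.Classical.BinCoc Cfsg.Agent.Invol.Big Cfsg.Agent.Invol.Big.Code Cfsg.Agent.Invol.Suz.Loc UFour
open scoped commutatorElement

variable {G : Type*} [Group G] [Finite G] {z : G} {Q : Subgroup G} {cd : G → ℕ}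
variable {S : Setting z Q cd} {g : ℕ → G} {a b : ℕ → G} {T : Tri S a b} {O : Subgroup G}

namespace Tri.OGrp

theorem b3_turn (T : Tri S a b) :
    ∃ e ≤ 1, b 3 * b 0 * (b 3)⁻¹ = b 1 * z ^ e := by
  have h3 : (b 3)⁻¹ = b 3 * b 3 := inv_eq_of_mul_eq_one_right (by rw [← pow_three, T.b3])
  have hh := ((((T.hb 3 (by norm_num)).mul (T.hb 0 (by norm_num))).mul
    ((T.hb 3 (by norm_num)).mul (T.hb 3 (by norm_num)))).ext_hat turn_b)
  rw [← h3] at hh
  rcases (T.hb 1 (by norm_num)).cancel hh with e | e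
  · exact ⟨0, by norm_num, by rw [e, pow_zero, mul_one]⟩
  · exact ⟨1, le_rfl, by rw [e, pow_one]⟩

/-- The cycle does not fix every inverted element. -/
theorem b3_moves (H : OGrp T O) (_M : Mdl S g) {i : G} (hi : i ∈ O) (hiz : z * i * z = i⁻¹) (hi1 : i ≠ 1) :
    ∃ d ∈ O, z * d * z = d⁻¹ ∧ b 3 * d * (b 3)⁻¹ ≠ d := by
  by_contra hcon
  push Not at hcon
  obtain ⟨e, he, hte⟩ := b3_turn T
  have hb0N := T.b_mem_N (show 0 < 4 by norm_num)
  have hb1N := T.b_mem_N (show 1 < 4 by norm_num)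
  have hze : ∀ d ∈ O, z * d * z = d⁻¹ →
      ∃ d' ∈ O, z * d' * z = d'⁻¹ ∧ (d' = d ∨ d' = d⁻¹) ∧ z ^ e * d * (z ^ e)⁻¹ = d' := by
    intro d hd hdz
    interval_cases e
    · exact ⟨d, hd, hdz, Or.inl rfl, by simp⟩
    · exact ⟨d⁻¹, inv_mem hd, H.inv_inv' hdz, Or.inr rfl, by rw [pow_one, S.code.zinv, hdz]⟩
  -- the two sign changes agree up to sign
  have key : ∀ d ∈ O, z * d * z = d⁻¹ → ∃ d' : G, (d' = d ∨ d' = d⁻¹) ∧ b 1 * d' * (b 1)⁻¹ = b 0 * d * (b 0)⁻¹ := by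
    intro d hd hdz
    obtain ⟨d', hd', hdz', hor, hcj⟩ := hze d hd hdz
    refine ⟨d', hor, ?_⟩
    have h0 := hcon (b 0 * d * (b 0)⁻¹) (H.b0_mem hd) (H.b0_inv hdz)
    have h3 := hcon d hd hdz
    calc b 1 * d' * (b 1)⁻¹ = b 1 * (z ^ e * d * (z ^ e)⁻¹) * (b 1)⁻¹ := by rw [hcj]
      _ = (b 3 * b 0 * (b 3)⁻¹) * d * (b 3 * b 0 * (b 3)⁻¹)⁻¹ := by rw [hte]; group
      _ = b 3 * (b 0 * ((b 3)⁻¹ * d * b 3) * (b 0)⁻¹) * (b 3)⁻¹ := by group
      _ = b 3 * (b 0 * d * (b 0)⁻¹) * (b 3)⁻¹ := by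
          have e3 : (b 3)⁻¹ * d * b 3 = d := by
            calc (b 3)⁻¹ * d * b 3 = (b 3)⁻¹ * (b 3 * d * (b 3)⁻¹) * b 3 := by rw [h3]
              _ = d := by group
          rw [e3]
      _ = _ := h0
  -- so their product acts as a sign
  have hsq : ∀ d ∈ O, z * d * z = d⁻¹ →
      ∃ s : Bool, b 0 * b 1 * d * (b 0 * b 1)⁻¹ = if s then d else d⁻¹ := by
    intro d hd hdz
    obtain ⟨d', hor, hk⟩ := key d hd hdz
    have hzd : b 0 * (b 0 * d * (b 0)⁻¹) * (b 0)⁻¹ = d⁻¹ := by rw [H.b0_z, hdz]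
    rcases hor with rfl | rfl
    · refine ⟨false, ?_⟩
      calc b 0 * b 1 * d' * (b 0 * b 1)⁻¹ = b 0 * (b 1 * d' * (b 1)⁻¹) * (b 0)⁻¹ := by group
        _ = _ := by rw [hk, hzd]; rfl
    · refine ⟨true, ?_⟩
      calc b 0 * b 1 * d * (b 0 * b 1)⁻¹ = (b 0 * (b 1 * d⁻¹ * (b 1)⁻¹) * (b 0)⁻¹)⁻¹ := by group
        _ = _ := by rw [hk, hzd, inv_inv]; rfl
  obtain ⟨s, hs⟩ := hsq i hi hiz
  have hfin : z * i * z⁻¹ = i := by
    rw [show z * i * z⁻¹ = b 0 * b 1 * (b 0 * b 1 * i * (b 0 * b 1)⁻¹) * (b 0 * b 1)⁻¹ by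
      conv_lhs => rw [← T.sq01]
      group]
    cases s
    · simp only [Bool.false_eq_true, if_false] at hs ⊢
      rw [hs, ← conj_inv, hs, inv_inv]
    · simp only [if_true] at hs ⊢
      rw [hs, hs]
  rw [S.code.zinv, hiz] at hfin
  refine hi1 (sq_inj (H.odd hi) (by simp) ?_)
  rw [mul_one]
  nth_rw 1 [← hfin]
  rw [inv_mul_cancel]

/-- A fixed point of the cycle is a commutator with it. -/
theorem fixed_comm (H : OGrp T O) (M : Mdl S g) {y : G} (hy : y ∈ O) (hfix : b 3 * y * (b 3)⁻¹ = y) :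
    ∃ w ∈ O, b 3 * w * (b 3)⁻¹ * w⁻¹ = y := by
  have hb3 := T.b_mem_N (show 3 < 4 by norm_num)
  obtain ⟨x, hx, d, hd, hdz, rfl⟩ := H.decomp hy
  rw [← conj_mul] at hfix
  obtain ⟨ex, ed⟩ := H.inv_unique (T.N_conj hb3 hx) hx (H.conj hb3.2 hd) hd (H.N_inv hb3 hdz) hdz hfix
  -- the rotation part
  obtain ⟨n, hn, rfl⟩ := T.mem_A0.1 hx
  obtain ⟨hl, hr⟩ := T.img_spec (show 1 < 24 by norm_num) hn
  rw [T.rep_six.2, ex] at hr
  obtain ⟨m, hm, he⟩ := fixed_three n hn (T.el3_hat_inj hn hl hr).symm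
  obtain ⟨hl', hr'⟩ := T.img_spec (show 1 < 24 by norm_num) hm
  rw [T.rep_six.2, ← he, ← (T.el3_mul hm hn).2] at hr'
  have hA : b 3 * el3 a m * (b 3)⁻¹ * (el3 a m)⁻¹ = el3 a n := by
    rw [hr', (T.el3_comm m n).eq, mul_inv_cancel_right]
  -- the inverted part
  obtain ⟨i, hi, hiz, hi1, hinj, hsurj⟩ := H.exists_basis M
  have hmemv := fun p => H.vec_mem M hi hiz p
  have himg : ∀ p, ∃ p', vec b i p' = b 3 * vec b i p * (b 3)⁻¹ := fun p =>
    hsurj _ (H.conj hb3.2 (hmemv p).1) (H.N_inv hb3 (hmemv p).2)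
  obtain ⟨u, hu⟩ := himg (1, 0)
  obtain ⟨v, hv⟩ := himg (0, 1)
  have hlin : ∀ p, b 3 * vec b i p * (b 3)⁻¹ = vec b i (UFour.lmap u v p) := by
    intro p
    have e1 : vec b i (p.1, 0) = vec b i ((1 : ZMod 3), (0 : ZMod 3)) ^ p.1.val := by
      rw [← H.vec_smul M hi]; simp
    have e2 : vec b i (0, p.2) = vec b i ((0 : ZMod 3), (1 : ZMod 3)) ^ p.2.val := by
      rw [← H.vec_smul M hi]; simp
    rw [show p = (p.1, 0) + (0, p.2) by simp, H.vec_add M hi, e1, e2, ← conj_mul, ← conj_pow, ← conj_pow, ← hu, ← hv,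
      ← H.vec_smul M hi, ← H.vec_smul M hi, ← H.vec_add M hi]
    congr 1
    simp [UFour.lmap, mul_comm]
  have h3 : ∀ p, UFour.lmap u v (UFour.lmap u v (UFour.lmap u v p)) = p := by
    intro p
    refine hinj ?_
    rw [← hlin, ← hlin, ← hlin]
    calc _ = b 3 ^ 3 * vec b i p * (b 3 ^ 3)⁻¹ := by rw [pow_three]; group
      _ = _ := by rw [T.b3]; group
  have hmoves : ∃ p, UFour.lmap u v p ≠ p := by
    obtain ⟨d', hd', hdz', hne⟩ := H.b3_moves M hi hiz hi1
    obtain ⟨p, rfl⟩ := hsurj d' hd' hdz'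
    exact ⟨p, fun e => hne (by rw [hlin, e])⟩
  obtain ⟨p, rfl⟩ := hsurj d hd hdz
  obtain ⟨r, hr2⟩ := plane_fixed u v h3 hmoves p (hinj (by rw [← hlin]; exact ed))
  have hI : b 3 * vec b i r * (b 3)⁻¹ * (vec b i r)⁻¹ = vec b i p := by
    rw [hlin, mul_inv_eq_iff_eq_mul, ← H.vec_add M hi, ← hr2, sub_add_cancel]
  refine ⟨el3 a m * vec b i r, mul_mem (H.A0_le (T.el3_mem hm)) (hmemv r).1, ?_⟩
  calc b 3 * (el3 a m * vec b i r) * (b 3)⁻¹ * (el3 a m * vec b i r)⁻¹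
      = b 3 * el3 a m * (b 3)⁻¹ * ((b 3 * vec b i r * (b 3)⁻¹ * (vec b i r)⁻¹) * (el3 a m)⁻¹) := by group
    _ = b 3 * el3 a m * (b 3)⁻¹ * ((el3 a m)⁻¹ * vec b i p) := by
        rw [hI, (H.abelian M (hmemv p).1 (inv_mem (H.A0_le (T.el3_mem hm))))]
    _ = el3 a n * vec b i p := by rw [← mul_assoc, hA]

theorem b0_inverts (T : Tri S a b) : b 0 * a 0 * (b 0)⁻¹ = a 0 * a 0 := by
  have := (T.prm_spec (show 6 < 24 by norm_num) (show 0 < 6 by norm_num)).2
  rw [T.rep_six.1, six_move.2.2, show el3 a (six 0) = a 0 from el3_single (i := 0) (by norm_num),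
    show el3 a (six 1) = a 0 ^ 2 from T.el3_small (show (2 : ℕ) < 3 by norm_num)] at this
  rw [this, pow_two]

theorem b0_not_cent (T : Tri S a b) : b 0 * a 0 ≠ a 0 * b 0 := fun e => by
  have h := b0_inverts T
  rw [e, mul_inv_cancel_right, left_eq_mul] at h
  have := T.orderOf_a0
  rw [h, orderOf_one] at this
  omega

/-- The first rotation is a commutator in its centralizer. -/
theorem a0_comm (H : OGrp T O) (M : Mdl S g) :
    ∃ u v, u * a 0 = a 0 * u ∧ v * a 0 = a 0 * v ∧ ⁅u, v⁆ = a 0 := by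
  classical
  haveI : Fact (Nat.Prime 3) := ⟨Nat.prime_three⟩
  set NO := Subgroup.normalizer (O : Set G)
  have hNO : Nat.card NO = 7920 * 243 := by
    rw [Subgroup.card_eq_card_quotient_mul_card_subgroup (O.subgroupOf NO),
      Nat.card_congr (Subgroup.subgroupOfEquivOfLe (Subgroup.le_normalizer (H := O))).toEquiv, (H.card_O M).1]
    rw [show Nat.card (↥NO ⧸ O.subgroupOf NO) = 7920 from (H.m11 M).2]
  have h7 : 3 ^ 7 ∣ Nat.card (cx NO (a 0)) := by
    obtain ⟨e, he, hnz⟩ := index_cx (H := NO) T.orderOf_a0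
    have h := H.pow_seven_dvd M
    rw [hnz] at h
    have he2 : e = 1 ∨ e = 2 := (Nat.dvd_prime Nat.prime_two).1 he
    exact (Nat.Coprime.dvd_of_dvd_mul_right (by rcases he2 with rfl | rfl <;> norm_num) h)
  obtain ⟨P0⟩ : Nonempty (Sylow 3 (cx NO (a 0))) := inferInstance
  set B := (P0 : Subgroup (cx NO (a 0))).map (cx NO (a 0)).subtype with hB
  have hBle : B ≤ NO := (Subgroup.map_subtype_le _).trans inf_le_left
  have hBc : 3 ^ 7 ∣ Nat.card B := by
    rw [hB, Subgroup.card_map_of_injective Subtype.coe_injective]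
    exact P0.pow_dvd_card_of_pow_dvd_card h7
  have hBp : IsPGroup 3 (B.subgroupOf NO) := (P0.isPGroup'.map _).of_injective
    (Subgroup.subgroupOfEquivOfLe hBle).toMonoidHom (Subgroup.subgroupOfEquivOfLe hBle).injective
  obtain ⟨P, hP⟩ := hBp.exists_le_sylow
  have hPe : (P : Subgroup NO) = B.subgroupOf NO := by
    refine (Subgroup.eq_of_le_of_card_ge hP ?_).symm
    rw [P.card_eq_multiplicity, hNO, show 7920 * 243 = 3 ^ 7 * 880 by norm_num,
      Nat.factorization_mul (by norm_num) (by norm_num), Finsupp.add_apply,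
      Nat.Prime.factorization_pow Nat.prime_three, Finsupp.single_eq_same,
      Nat.factorization_eq_zero_of_not_dvd (by norm_num : ¬ 3 ∣ 880), add_zero,
      Nat.card_congr (Subgroup.subgroupOfEquivOfLe hBle).toEquiv]
    exact Nat.le_of_dvd Nat.card_pos hBc
  have hb3 : b 3 ∈ NO := H.N_le_norm (T.b_mem_N (by norm_num))
  have hz3 : IsPGroup 3 (Subgroup.zpowers (⟨b 3, hb3⟩ : NO)) := by
    intro ⟨w, hw⟩
    obtain ⟨i, rfl⟩ := Subgroup.mem_zpowers_iff.1 hw
    refine ⟨1, Subtype.ext (Subtype.ext ?_)⟩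
    show (b 3 ^ i) ^ 3 ^ 1 = 1
    rw [pow_one, ← zpow_natCast, ← zpow_mul, mul_comm, zpow_mul, zpow_natCast, T.b3, one_zpow]
  obtain ⟨P1, hP1⟩ := hz3.exists_le_sylow
  obtain ⟨n, hn⟩ := MulAction.exists_smul_eq NO P1 P
  have hnb : (n : G) * b 3 * (n : G)⁻¹ ∈ B := by
    have h2 := Subgroup.smul_mem_pointwise_smul _ (MulAut.conj n) _ (hP1 (Subgroup.mem_zpowers _))
    rw [← Sylow.coe_subgroup_smul, hn, hPe, Subgroup.mem_subgroupOf] at h2
    exact h2
  have hcx : (n : G) * b 3 * (n : G)⁻¹ ∈ cx NO (a 0) := Subgroup.map_subtype_le _ hnb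
  obtain ⟨-, hc⟩ := mem_cx.1 hcx
  have hA : a 0 ∈ O := H.A0_le (T.a_mem (by norm_num))
  set a' := (n : G)⁻¹ * a 0 * n with ha'
  have ha'O : a' ∈ O := by
    rw [Subgroup.mem_normalizer_iff.1 n.2 a', show (n : G) * a' * (n : G)⁻¹ = a 0 by rw [ha']; group]
    exact hA
  have hfix : b 3 * a' * (b 3)⁻¹ = a' := by
    calc b 3 * a' * (b 3)⁻¹ = (n : G)⁻¹ * ((n : G) * b 3 * (n : G)⁻¹ * a 0 * ((n : G) * b 3 * (n : G)⁻¹)⁻¹) * n := by
          rw [ha']; group
      _ = a' := by rw [hc, mul_inv_cancel_right]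
  obtain ⟨w, hw, he⟩ := H.fixed_comm M ha'O hfix
  refine ⟨(n : G) * b 3 * (n : G)⁻¹, (n : G) * w * (n : G)⁻¹, hc,
    H.comm ((Subgroup.mem_normalizer_iff.1 n.2 w).1 hw) (T.a_mem (by norm_num)), ?_⟩
  rw [← conjugate_commutatorElement, commutatorElement_def, he, ha']
  group

/-- The centralizer and normalizer of the group of the first rotation. -/
theorem main (H : OGrp T O) (M : Mdl S g) (F : Type*) [Field F] [Fintype F] (hF : Fintype.card F = 9) :
    Cfsg.IsQuasisimple ↥(CL (a 0)) ∧ Nonempty (QL (a 0) ≃* Cfsg.PSU 4 F 3) ∧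
      (CL (a 0)).relIndex (Subgroup.normalizer ((Subgroup.zpowers (a 0) : Subgroup G) : Set G)) = 2 := by
  classical
  haveI : Fact (Nat.Prime 3) := ⟨Nat.prime_three⟩
  obtain ⟨f⟩ := T.iso_psu F hF
  haveI := Cfsg.Agent.S0283.result (F := F) (q := 3) (by rw [hF]; norm_num) 4 (by norm_num) (by norm_num)
  haveI : Nontrivial (QL (a 0)) := f.toEquiv.nontrivial
  haveI hs : IsSimpleGroup (QL (a 0)) := MulEquiv.isSimpleGroup f
  set N := (Subgroup.zpowers (a 0)).subgroupOf (CL (a 0)) with hN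
  have hna : ∃ p q : QL (a 0), p * q ≠ q * p := ⟨T.xq 1, T.xq 2, fun e => by
    rw [← T.stab_x.mul 1 (by norm_num) 2 (by norm_num), ← T.stab_x.mul 2 (by norm_num) 1 (by norm_num)] at e
    exact absurd (T.stab_x.inj _ (Cfsg.Agent.Spor.UFourType.sMul_lt 1 (by norm_num) 2 (by norm_num)) _
      (Cfsg.Agent.Spor.UFourType.sMul_lt 2 (by norm_num) 1 (by norm_num)) e) (by decide)⟩
  have hNc : N ≤ Subgroup.center ↥(CL (a 0)) := fun w hw => Subgroup.mem_center_iff.2 fun v =>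
    Subtype.ext (Subgroup.mem_centralizer_iff.1 v.2 _ (Subgroup.mem_subgroupOf.1 hw)).symm
  have hsur : Function.Surjective (QuotientGroup.mk' N) := QuotientGroup.mk'_surjective N
  have hcent : Subgroup.center ↥(CL (a 0)) = N := by
    refine le_antisymm (fun w hw => ?_) hNc
    have hm : QuotientGroup.mk' N w ∈ Subgroup.center (QL (a 0)) := Subgroup.mem_center_iff.2 fun v => by
      obtain ⟨v, rfl⟩ := hsur v
      rw [← map_mul, ← map_mul, Subgroup.mem_center_iff.1 hw v]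
    rcases (inferInstance : (Subgroup.center (QL (a 0))).Normal).eq_bot_or_eq_top with e | e
    · rw [e, Subgroup.mem_bot] at hm
      exact (QuotientGroup.eq_one_iff w).1 hm
    · obtain ⟨p, q, hpq⟩ := hna
      exact absurd (Subgroup.mem_center_iff.1 (e ▸ Subgroup.mem_top q) p) hpq
  have hperf : Group.IsPerfect ↥(CL (a 0)) := by
    rw [Group.isPerfect_def]
    have hNle : N ≤ commutator ↥(CL (a 0)) := by
      intro w hw
      obtain ⟨u, v, hu, hv, he⟩ := H.a0_comm M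
      obtain ⟨k, hk⟩ := Subgroup.mem_zpowers_iff.1 (Subgroup.mem_subgroupOf.1 hw)
      have hm : (⁅(⟨u, mem_CL.2 hu⟩ : ↥(CL (a 0))), ⟨v, mem_CL.2 hv⟩⁆) ∈ commutator ↥(CL (a 0)) :=
        Subgroup.commutator_mem_commutator (Subgroup.mem_top _) (Subgroup.mem_top _)
      have : w = ⁅(⟨u, mem_CL.2 hu⟩ : ↥(CL (a 0))), ⟨v, mem_CL.2 hv⟩⁆ ^ k := by
        refine Subtype.ext ?_
        calc (w : G) = a 0 ^ k := hk.symm
          _ = ⁅u, v⁆ ^ k := congrArg (fun t => t ^ k) he.symm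
          _ = _ := by push_cast; rfl
      rw [this]
      exact zpow_mem hm k
    have hq : (commutator ↥(CL (a 0))).map (QuotientGroup.mk' N) = ⊤ := by
      have h1 : (commutator ↥(CL (a 0))).map (QuotientGroup.mk' N) = commutator (QL (a 0)) := by
        rw [commutator_def, commutator_def, Subgroup.map_commutator, Subgroup.map_top_of_surjective _ hsur]
      rw [h1]
      refine (inferInstance : (commutator (QL (a 0))).Normal).eq_bot_or_eq_top.resolve_left fun e => ?_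
      obtain ⟨p, q, hpq⟩ := hna
      have := Subgroup.commutator_mem_commutator (Subgroup.mem_top p) (Subgroup.mem_top q)
      rw [← commutator_def, e, Subgroup.mem_bot, commutatorElement_eq_one_iff_mul_comm] at this
      exact hpq this
    refine top_le_iff.1 fun w _ => ?_
    obtain ⟨v, hv, e⟩ := (hq ▸ Subgroup.mem_top (QuotientGroup.mk' N w) :
      QuotientGroup.mk' N w ∈ (commutator ↥(CL (a 0))).map (QuotientGroup.mk' N))
    have hvw : v⁻¹ * w ∈ N := QuotientGroup.eq.1 e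
    have := mul_mem hv (hNle hvw)
    rwa [mul_inv_cancel_left] at this
  refine ⟨⟨hperf, ?_⟩, ⟨f⟩, ?_⟩
  · exact MulEquiv.isSimpleGroup (QuotientGroup.quotientMulEquivOfEq hcent)
  -- the index
  set NG := Subgroup.normalizer ((Subgroup.zpowers (a 0) : Subgroup G) : Set G)
  have hcx : cx (⊤ : Subgroup G) (a 0) = CL (a 0) := by
    ext w
    rw [mem_cx, mem_CL]
    exact ⟨fun h => h.2, fun h => ⟨Subgroup.mem_top w, h⟩⟩
  have hnz : nz (⊤ : Subgroup G) (a 0) = NG := top_inf_eq _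
  obtain ⟨e, he, hc⟩ := index_cx (H := (⊤ : Subgroup G)) T.orderOf_a0
  rw [hcx, hnz] at hc
  have hle : CL (a 0) ≤ NG := hcx ▸ hnz ▸ cx_le_nz _ _
  have he2 : e = 2 := by
    rcases (Nat.dvd_prime Nat.prime_two).1 he with rfl | rfl
    · exfalso
      rw [mul_one] at hc
      have hb : b 0 ∈ NG := hnz ▸ mem_nz_of T.orderOf_a0 (Subgroup.mem_top _) (by
        rw [b0_inverts T]; exact mul_mem (Subgroup.mem_zpowers _) (Subgroup.mem_zpowers _))
      rw [← Subgroup.eq_of_le_of_card_ge hle hc.le] at hb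
      exact b0_not_cent T (mem_CL.1 hb)
    · rfl
  have h := Subgroup.card_mul_index ((CL (a 0)).subgroupOf NG)
  rw [Nat.card_congr (Subgroup.subgroupOfEquivOfLe hle).toEquiv, hc, he2] at h
  exact Nat.eq_of_mul_eq_mul_left Nat.card_pos h

end Tri.OGrp

section Transport

variable {G : Type*} [Group G] [Finite G]

/-- The conclusion is carried by automorphisms. -/
theorem transport (φ : G ≃* G) (X X' : Subgroup G) (hX : X.map φ.toMonoidHom = X')
    [hn : (X.subgroupOf (Subgroup.centralizer (X : Set G))).Normal]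
    [hn' : (X'.subgroupOf (Subgroup.centralizer (X' : Set G))).Normal] {P : Type*} [Group P]
    (h : Cfsg.IsQuasisimple ↥(Subgroup.centralizer (X' : Set G)) ∧
      Nonempty (↥(Subgroup.centralizer (X' : Set G)) ⧸ X'.subgroupOf (Subgroup.centralizer (X' : Set G)) ≃* P) ∧
      (Subgroup.centralizer (X' : Set G)).relIndex (Subgroup.normalizer (X' : Set G)) = 2) :
    Cfsg.IsQuasisimple ↥(Subgroup.centralizer (X : Set G)) ∧
      Nonempty (↥(Subgroup.centralizer (X : Set G)) ⧸ X.subgroupOf (Subgroup.centralizer (X : Set G)) ≃* P) ∧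
      (Subgroup.centralizer (X : Set G)).relIndex (Subgroup.normalizer (X : Set G)) = 2 := by
  subst hX
  have hC : (Subgroup.centralizer (X : Set G)).map φ.toMonoidHom =
      Subgroup.centralizer ((X.map φ.toMonoidHom : Subgroup G) : Set G) := by
    ext w
    simp only [Subgroup.mem_map, Subgroup.mem_centralizer_iff, SetLike.mem_coe]
    constructor
    · rintro ⟨v, hv, rfl⟩ _ ⟨x, hx, rfl⟩
      show φ x * φ v = φ v * φ x
      rw [← map_mul, ← map_mul, hv x hx]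
    · intro hw
      refine ⟨φ.symm w, fun x hx => φ.injective ?_, φ.apply_symm_apply w⟩
      rw [map_mul, map_mul, φ.apply_symm_apply]
      exact hw _ ⟨x, hx, rfl⟩
  let f := (φ.subgroupMap (Subgroup.centralizer (X : Set G))).trans (MulEquiv.subgroupCongr hC)
  have hf : (X.subgroupOf (Subgroup.centralizer (X : Set G))).map f.toMonoidHom =
      (X.map φ.toMonoidHom).subgroupOf (Subgroup.centralizer ((X.map φ.toMonoidHom : Subgroup G) : Set G)) := by
    ext w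
    constructor
    · rintro ⟨v, hv, rfl⟩
      exact ⟨v, hv, rfl⟩
    · rintro ⟨x, hx, e⟩
      obtain ⟨v, rfl⟩ := f.surjective w
      refine ⟨v, ?_, rfl⟩
      rw [SetLike.mem_coe, Subgroup.mem_subgroupOf]
      have : x = (v : G) := φ.injective e
      exact this ▸ hx
  obtain ⟨h1, ⟨e⟩, h3⟩ := h
  refine ⟨(Grp.isQuasisimple_congr f).2 h1, ⟨(QuotientGroup.congr _ _ f hf).trans e⟩, ?_⟩
  rw [← h3, ← hC, ← Subgroup.map_equiv_normalizer_eq X φ, Subgroup.relIndex_map_map_of_injective _ _ φ.injective]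

end Transport

end Cfsg.Agent.Invol.Suz.Loc.Three
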