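import Cfsg.Agent.Lib.Invol.Suz.Loc.ThreeN
import Cfsg.Agent.Lib.Spor.UFourType.SL

/-!
# The finite checks on the centralizer of one rotation in the centralizer of `z`
-/

set_option autoImplicit false
set_option maxRecDepth 100000
set_option synthInstance.maxSize 4000
set_option synthInstance.maxHeartbeats 400000

namespace Cfsg.Agent.Invol.Suz.Loc.Three.UFour

open Cfsg.Agent.Classical.BinCoc Cfsg.Agent.Invol.Big Cfsg.Agent.Invol.Suz.Loc Cfsg.Agent.Invol.Suz.Loc.Three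
  Cfsg.Agent.Spor.UFourType

/-- A coded element of `Q` commuting with the first rotation. -/
def fx (p : ℕ) : Bool := ap K6 (aH 0) p == p

/-- The elements of `Q` in the second plane's quaternion group. -/
def qA : List ℕ := [0, 1, 14, 15, 20, 21, 26, 27]

/-- The elements of `Q` in the third plane's quaternion group. -/
def qB : List ℕ := [0, 1, 32, 33, 64, 65, 96, 97]

/-- The first copy of `SL₂(3)`, as pairs of a coded element and a product of rotations. -/
def xT : List (ℕ × ℕ) :=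
  [(0, 0), (14, 0), (20, 0), (26, 0), (0, 3), (14, 3), (20, 3), (26, 3), (0, 6), (14, 6), (20, 6), (26, 6),
    (1, 0), (15, 0), (21, 0), (27, 0), (1, 3), (15, 3), (21, 3), (27, 3), (1, 6), (15, 6), (21, 6), (27, 6)]

/-- The second copy of `SL₂(3)`. -/
def yT : List (ℕ × ℕ) :=
  [(0, 0), (32, 0), (64, 0), (96, 0), (0, 9), (32, 9), (64, 9), (96, 9), (0, 18), (32, 18), (64, 18), (96, 18),
    (1, 0), (33, 0), (65, 0), (97, 0), (1, 9), (33, 9), (65, 9), (97, 9), (1, 18), (33, 18), (65, 18), (97, 18)]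

/-- An entry of the first table. -/
def xt (a : ℕ) : ℕ × ℕ := xT.getD a (0, 0)

/-- An entry of the second table. -/
def yt (a : ℕ) : ℕ × ℕ := yT.getD a (0, 0)

/-- The product of pairs. -/
def pm (u v : ℕ × ℕ) : ℕ × ℕ := (mulP K6 u.1 (ap K6 (hA u.2) v.1), add u.2 v.2)

theorem tab_lt : ∀ a < 24, ((xt a).1 < 128 ∧ (xt a).2 < 27 ∧ fx (xt a).1 = true) ∧
    ((yt a).1 < 128 ∧ (yt a).2 < 27 ∧ fx (yt a).1 = true) := by decide +kernel

theorem tab_mul : ∀ a < 24, ∀ b < 24, pm (xt a) (xt b) = xt (sMul a b) ∧ pm (yt a) (yt b) = yt (sMul a b) ∧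
    pm (xt a) (yt b) = pm (yt b) (xt a) := by decide +kernel

theorem tab_sep : ∀ a < 24, ∀ b < 24, ∀ k < 3, (((xt a).1, add (xt a).2 k) = xt b → a = b) ∧
    (((yt a).1, add (yt a).2 k) = yt b → a = b) ∧
    (((xt a).1, add (xt a).2 k) = yt b → a = 0 ∨ a = 12) := by decide +kernel

theorem tab_special : xt 12 = (1, 0) ∧ yt 12 = (1, 0) ∧ (∀ p ∈ q8L, (xt p).2 = 0 ∧ (yt p).2 = 0) ∧
    (∀ d < 3, 4 * d < 24 ∧ xt (4 * d) = (0, 3 * d) ∧ yt (4 * d) = (0, 9 * d)) ∧
    ∀ n < 27, add (3 * dig 1 n) (add (9 * dig 2 n) (dig 0 n)) = n := by decide +kernel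

theorem cover_ok : ∀ p < 128, fx p = true → ∃ r ∈ q8L, ∃ s ∈ q8L,
    mulP K6 (xt r).1 (yt s).1 = p := by decide +kernel

theorem inQ_fx : ∀ r ∈ q8L, ∀ s ∈ q8L, fx (mulP K6 (xt r).1 (yt s).1) = true := by decide +kernel

theorem center_fx : ∀ p < 128, fx p = true →
    ((List.range 128).all fun r => !fx r || mulP K6 p r == mulP K6 r p) = true → p < 2 := by decide +kernel

/-- The nonsingular fixed codes of the first rotation. -/
def sixP : List ℕ := [7, 10, 13, 16, 32, 48]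

theorem six_pts : ∀ x < 64, rot 1 x = x → K6.q x = true → x ∈ sixP := by decide +kernel

theorem swap_ok : prm 4 0 = 0 ∧ ∀ x ∈ [16, 32, 48], ap K6 (rH 4) (2 * x) / 2 ∈ [7, 10, 13] := by decide +kernel

theorem plane_one : ∀ a ∈ [7, 10, 13], ∀ b ∈ sixP, bq K6 a b = true → b ∈ [7, 10, 13] := by decide +kernel

theorem plane_two : ∀ a ∈ [7, 10, 13], ∀ b ∈ [7, 10, 13], ∀ c ∈ sixP, bq K6 a b = true → bq K6 a c = false →
    bq K6 b c = false → c ∈ [16, 32, 48] := by decide +kernel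

theorem plane_zero : ∀ a ∈ [7, 10, 13], ∀ b ∈ [7, 10, 13], ∀ c ∈ [16, 32, 48], ∀ d ∈ [16, 32, 48],
    bq K6 a b = true → bq K6 c d = true → ∀ v < 64, K6.q v = true → bq K6 a v = false → bq K6 b v = false →
    bq K6 c v = false → bq K6 d v = false → v ∈ [5, 11, 14] := by decide +kernel

/-- The candidates for an isometry keeping the three planes. -/
def gens (v a b c d : ℕ) : List (ℕ × List ℕ) :=
  [(5, [v]), (11, [rot 1 v]), (7, [a]), (10, [b]), (16, [c]), (32, [d])]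

theorem gens_cover : covers K6 ((gens 0 0 0 0 0).map Prod.fst) = true ∧ rot 1 5 = 11 ∧
    (∀ x ∈ [7, 10, 16, 32], rot 1 x = x) := by decide +kernel

/-- The candidates commute with or invert the other two rotations. -/
def chkTurn : Bool :=
  [5, 11, 14].all fun v => [7, 10, 13].all fun a => [7, 10, 13].all fun b => [16, 32, 48].all fun c =>
    [16, 32, 48].all fun d => (maps K6 (gens v a b c d)).all fun T =>
      ([3, 6].any fun m => (pts K6).all fun x => T.getD (rot 3 x) 0 == rot m (T.getD x 0)) &&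
        [9, 18].any fun m => (pts K6).all fun x => T.getD (rot 9 x) 0 == rot m (T.getD x 0)

theorem turn_ok : chkTurn = true := by decide +kernel

theorem conj_ok : (∀ p < 128, fx p = true → ∀ m ∈ [3, 6], pm (p, m) (pm (p, m) (p, m)) = (0, 0) →
      ∃ r ∈ qA, ∃ r' ∈ qA, mulP K6 r r' = 0 ∧ mulP K6 r (ap K6 (hA m) r') = p) ∧
    ∀ p < 128, fx p = true → ∀ m ∈ [9, 18], pm (p, m) (pm (p, m) (p, m)) = (0, 0) →
      ∃ r ∈ qB, ∃ r' ∈ qB, mulP K6 r r' = 0 ∧ mulP K6 r (ap K6 (hA m) r') = p := by decide +kernel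

theorem qAB_ok : ∀ r ∈ qA, ∀ s ∈ qB, r < 128 ∧ s < 128 ∧ fx r = true ∧ fx s = true ∧
    mulP K6 r s = mulP K6 s r ∧ (∀ m ∈ [9, 18], ap K6 (hA m) r = r) ∧ ∀ m ∈ [3, 6], ap K6 (hA m) s = s := by
  decide +kernel

/-- The action of a monomial element on codes. -/
def monAct (k n x : ℕ) : ℕ := ap K6 (rH k) (2 * rot n x) / 2

theorem self_ok : ∀ k < 24, ∀ n < 27, prm k 0 = 0 → ([7, 10, 16, 32].all fun x => monAct k n x == x) = true →
    k = 0 ∧ n < 3 := by decide +kernel

theorem swap_t : fx 46 = true ∧ (46 / 2 : ℕ) ≠ 0 ∧ mulP K6 46 46 = 0 := by decide +kernel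

theorem card_noncentral :
    Fintype.card {p : Fin 128 // 2 ≤ p.val ∧ mulP K6 p.val p.val = 0} = 54 := by decide +kernel

theorem card_fx : Fintype.card {p : Fin 128 // fx p.val = true} = 32 := by decide +kernel

theorem fixed_three : ∀ n < 27, img 1 n = n → ∃ m < 27, add m n = img 1 m := by decide +kernel

theorem turn_b : cmp K6 (cmp K6 (bH 3) (bH 0)) (cmp K6 (bH 3) (bH 3)) = bH 1 := by decide +kernel

/-- A linear map of the plane from its columns. -/
def lmap (u v p : ZMod 3 × ZMod 3) : ZMod 3 × ZMod 3 := (p.1 * u.1 + p.2 * v.1, p.1 * u.2 + p.2 * v.2)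

theorem plane_fixed : ∀ u v : ZMod 3 × ZMod 3, (∀ p, lmap u v (lmap u v (lmap u v p)) = p) →
    (∃ p, lmap u v p ≠ p) → ∀ p, lmap u v p = p → ∃ r, lmap u v r - r = p := by decide +kernel

end Cfsg.Agent.Invol.Suz.Loc.Three.UFour
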