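import Cfsg.Agent.Lib.Invol.Suz.Loc.UFour.Data
import Cfsg.Agent.Lib.Invol.Suz.Loc.ThreeR

/-!
# The centralizer of one rotation in the centralizer of `z`
-/

set_option autoImplicit false
set_option linter.unusedSectionVars false
set_option linter.style.haveILetI false

namespace Cfsg.Agent.Invol.Suz.Loc.Three

open Cfsg Cfsg.Agent.Classical.BinCoc Cfsg.Agent.Invol.Big Cfsg.Agent.Invol.Big.Code Cfsg.Agent.Invol.Suz.Loc UFour

variable {G : Type*} [Group G] [Finite G] {z : G} {Q : Subgroup G} {cd : G → ℕ}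
variable {S : Setting z Q cd} {a b : ℕ → G}

namespace Tri

/-- A coded element times a product of rotations. -/
noncomputable def pr (_T : Tri S a b) (u : ℕ × ℕ) : G := el S.code u.1 * el3 a u.2

theorem a0_eq : el3 a 1 = a 0 := el3_single (i := 0) (by norm_num)

theorem el3_small (T : Tri S a b) {k : ℕ} (hk : k < 3) : el3 a k = a 0 ^ k := by
  interval_cases k <;> simp [el3, dig]

theorem orderOf_a0 (T : Tri S a b) : orderOf (a 0) = 3 := by
  haveI : Fact (Nat.Prime 3) := ⟨Nat.prime_three⟩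
  refine orderOf_eq_prime (T.a3 0 (by norm_num)) fun e => ?_
  have := T.el3_hat_inj (n := 1) (m := 0) (by norm_num) (by norm_num) (by rw [a0_eq, el3_zero, e])
  omega

theorem mem_zpowers_a0 (T : Tri S a b) {x : G} (hx : x ∈ Subgroup.zpowers (a 0)) :
    ∃ k < 3, a 0 ^ k = x := by
  obtain ⟨i, hi⟩ := Subgroup.mem_zpowers_iff.1 hx
  refine ⟨(i % 3).toNat, by omega, ?_⟩
  rw [← hi, ← zpow_natCast, Int.toNat_of_nonneg (Int.emod_nonneg _ (by norm_num))]
  have := T.orderOf_a0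
  rw [show (3 : ℤ) = (orderOf (a 0) : ℤ) by rw [this]; rfl, zpow_mod_orderOf]

theorem pr_z (T : Tri S a b) : T.pr (1, 0) = z := by rw [pr, el_one, el3_zero, mul_one]

theorem pr_one (T : Tri S a b) : T.pr (0, 0) = 1 := by rw [pr, el_zero, el3_zero, mul_one]

theorem pr_comm_z (T : Tri S a b) {u : ℕ × ℕ} (hu : u.2 < 27) : T.pr u * z = z * T.pr u :=
  comm_mul (S.code.ext.central _ (el_mem S.code _)) (T.z_comm_el3 hu)

theorem pm_lt (T : Tri S a b) {u v : ℕ × ℕ} (hu : u.1 < 128 ∧ u.2 < 27) (hv : v.2 < 27) :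
    (pm u v).1 < 128 ∧ (pm u v).2 < 27 := by
  refine ⟨?_, (T.el3_mul hu.2 hv).1⟩
  have := (T.hat_el3 hu.2).app_lt v.1
  exact mulP_lt (K := K6) hu.1 this

theorem pr_mul (T : Tri S a b) {u v : ℕ × ℕ} (hu : u.2 < 27) (hv : v.2 < 27) :
    T.pr u * T.pr v = T.pr (pm u v) := by
  unfold pr pm
  rw [← el_mul, ← (T.el3_mul hu hv).2, ← (T.hat_el3 hu).app v.1]
  group

theorem eq_one_of_Q (T : Tri S a b) {x : G} (hxQ : x ∈ Q) (hx : x ∈ T.A0) : x = 1 := by
  obtain ⟨j, hj⟩ := S.code.two ⟨x, hxQ⟩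
  have hj' : x ^ 2 ^ j = 1 := congrArg Subtype.val hj
  obtain ⟨n, -, rfl⟩ := hx
  exact orderOf_eq_one_iff.1 (Nat.eq_one_of_dvd_coprimes (Nat.Coprime.pow_left j (by norm_num : Nat.Coprime 2 3))
    (orderOf_dvd_of_pow_eq_one hj') (orderOf_dvd_of_pow_eq_one (T.el3_cube n)))

theorem pr_inj (T : Tri S a b) {u v : ℕ × ℕ} (hu : u.1 < 128 ∧ u.2 < 27) (hv : v.1 < 128 ∧ v.2 < 27)
    (e : T.pr u = T.pr v) : u = v := by
  unfold pr at e
  have h1 : (el S.code v.1)⁻¹ * el S.code u.1 = el3 a v.2 * (el3 a u.2)⁻¹ := by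
    rw [eq_mul_inv_iff_mul_eq, mul_assoc, e, inv_mul_cancel_left]
  have h2 : el3 a v.2 * (el3 a u.2)⁻¹ = 1 := T.eq_one_of_Q
    (h1 ▸ mul_mem (inv_mem (el_mem S.code _)) (el_mem S.code _)) (mul_mem (T.el3_mem hv.2) (inv_mem (T.el3_mem hu.2)))
  rw [h2] at h1
  refine Prod.ext (el_inj S.code hu.1 hv.1 ?_) (T.el3_hat_inj hu.2 hv.2 ?_)
  · exact (inv_mul_eq_one.1 h1).symm
  · exact (mul_inv_eq_one.1 h2).symm

theorem pr_snd (T : Tri S a b) {p n k : ℕ} (hn : n < 27) (hk : k < 27) :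
    T.pr (p, n) * el3 a k = T.pr (p, add n k) := by
  unfold pr; rw [mul_assoc, (T.el3_mul hn hk).2]

theorem fx_iff (T : Tri S a b) {p : ℕ} (hp : p < 128) :
    fx p = true ↔ el S.code p * a 0 = a 0 * el S.code p := by
  have e := (T.ha 0 (by norm_num)).app p
  rw [fx, beq_iff_eq]
  constructor
  · intro h
    rw [h] at e
    exact (mul_inv_eq_iff_eq_mul.1 e).symm
  · intro h
    refine el_inj S.code ((T.ha 0 (by norm_num)).app_lt p) hp ?_
    rw [← e, ← h, mul_inv_cancel_right]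

theorem el3_comm_a0 (T : Tri S a b) {n : ℕ} (_hn : n < 27) : el3 a n * a 0 = a 0 * el3 a n :=
  (T.commute_all (fun i hi => T.comm_a (by norm_num : 0 < 3) hi) n).eq.symm

theorem exists_fx (T : Tri S a b) {w : G} (hw : w ∈ Q) (hc : w * a 0 = a 0 * w) :
    ∃ p < 128, fx p = true ∧ el S.code p = w := by
  obtain ⟨p, hp, rfl⟩ := exists_el S.code hw
  exact ⟨p, hp, (T.fx_iff hp).2 hc, rfl⟩

theorem rot_comm (T : Tri S a b) {u : G} (hu : u * z = z * u) (hc : u * a 0 = a 0 * u) {x : ℕ}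
    (hx : x < 2 ^ K6.n) : S.code.act u (rot 1 x) = rot 1 (S.code.act u x) := by
  have h1 : el3 a 1 * z = z * el3 a 1 := T.z_comm_el3 (by norm_num)
  rw [← T.act_el3 (by norm_num) hx, ← S.code.act_mul hu h1 hx, a0_eq (a := a), hc, ← a0_eq (a := a),
    S.code.act_mul h1 hu hx, T.act_el3 (by norm_num) (S.code.act_lt hu x)]

/-- An element keeping the first rotation sends the other rotations into the others times `Q`. -/
theorem exists_turn (T : Tri S a b) {u : G} (hu : u * z = z * u) (hc : u * a 0 = a 0 * u)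
    (h7 : S.code.act u 7 ∈ [7, 10, 13]) :
    (∃ m ∈ [3, 6], ∀ x < 2 ^ K6.n, S.code.act u (rot 3 x) = rot m (S.code.act u x)) ∧
      ∃ m ∈ [9, 18], ∀ x < 2 ^ K6.n, S.code.act u (rot 9 x) = rot m (S.code.act u x) := by
  set h := S.code
  obtain ⟨hcov, h5, hfix⟩ := gens_cover
  have hlt : ∀ x ∈ [5, 7, 10, 16, 32], x < 2 ^ K6.n := by decide
  have hsix : ∀ x ∈ [7, 10, 16, 32], h.act u x ∈ sixP := fun x hx => by
    have hl : x < 2 ^ K6.n := hlt x (List.mem_cons_of_mem _ hx)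
    refine six_pts _ (h.act_lt hu x) ?_ ?_
    · rw [← T.rot_comm hu hc hl, hfix x hx]
    · rw [h.act_q hu hl]; revert hx; revert x; decide +kernel
  have hb : ∀ x < 2 ^ K6.n, ∀ y < 2 ^ K6.n, bq K6 (h.act u x) (h.act u y) = bq K6 x y := fun x hx y hy =>
    h.bq_act hu hx hy
  have g10 : h.act u 10 ∈ [7, 10, 13] := plane_one _ h7 _ (hsix 10 (by simp))
    (by rw [hb _ (by decide) _ (by decide)]; decide +kernel)
  have two : ∀ x ∈ [16, 32], h.act u x ∈ [16, 32, 48] := fun x hx => by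
    have hl : x < 2 ^ K6.n := by revert hx; revert x; decide
    refine plane_two _ h7 _ g10 _ (hsix x (by simp at hx ⊢; tauto)) ?_ ?_ ?_
    · rw [hb _ (by decide) _ (by decide)]; decide +kernel
    · rw [hb _ (by decide) _ hl]; revert hx; revert x; decide +kernel
    · rw [hb _ (by decide) _ hl]; revert hx; revert x; decide +kernel
  have g5 : h.act u 5 ∈ [5, 11, 14] := by
    refine plane_zero _ h7 _ g10 _ (two 16 (by simp)) _ (two 32 (by simp)) ?_ ?_ _ (h.act_lt hu 5) ?_ ?_ ?_ ?_ ?_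
    all_goals first
      | (rw [hb _ (by decide) _ (by decide)]; decide +kernel)
      | (rw [h.act_q hu (by decide)]; decide +kernel)
  have hadd : ∀ x y, x < 2 ^ K6.n → y < 2 ^ K6.n → h.act u (x ^^^ y) = h.act u x ^^^ h.act u y :=
    fun x y hx hy => h.act_xor hu hx hy
  have hmem : tab K6 (h.act u) ∈ maps K6 (gens (h.act u 5) (h.act u 7) (h.act u 10) (h.act u 16) (h.act u 32)) := by
    refine mem_maps K6 _ _ hadd (fun x hx => h.act_q hu hx) (by simpa [gens] using hcov) ?_ ?_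
    · intro p hp
      simp only [gens, List.mem_cons, List.not_mem_nil, or_false] at hp
      rcases hp with rfl | rfl | rfl | rfl | rfl | rfl <;> exact show _ < 2 ^ K6.n by simp [K6_n]
    · intro p hp
      simp only [gens, List.mem_cons, List.not_mem_nil, or_false] at hp
      rcases hp with rfl | rfl | rfl | rfl | rfl | rfl <;> simp
      rw [← h5, T.rot_comm hu hc (by decide)]
  have ht := UFour.turn_ok
  simp only [UFour.chkTurn, List.all_eq_true] at ht
  have ht2 := ht _ g5 _ h7 _ g10 _ (two 16 (by simp)) _ (two 32 (by simp)) _ hmem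
  simp only [Bool.and_eq_true, List.any_eq_true, List.all_eq_true, pts, List.mem_range, beq_iff_eq] at ht2
  have hr : ∀ n, n = 3 ∨ n = 9 → ∀ x < 2 ^ K6.n, rot n x < 2 ^ K6.n := by
    rintro n hn x hx
    rw [← T.act_el3 (by omega) hx]
    exact h.act_lt (T.z_comm_el3 (by omega)) x
  obtain ⟨⟨m, hm, e⟩, m', hm', e'⟩ := ht2
  exact ⟨⟨m, hm, fun x hx => by
      have := e x hx
      rwa [tab_getD K6 (hr 3 (Or.inl rfl) x hx), tab_getD K6 hx] at this⟩,
    m', hm', fun x hx => by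
      have := e' x hx
      rwa [tab_getD K6 (hr 9 (Or.inr rfl) x hx), tab_getD K6 hx] at this⟩

/-- The image of a rotation is a coded element times a rotation. -/
theorem conj_form (T : Tri S a b) {u : G} (hu : u * z = z * u) (hc : u * a 0 = a 0 * u) {n m : ℕ} (hn : n < 27)
    (hm : m < 27) (e : ∀ x < 2 ^ K6.n, S.code.act u (rot n x) = rot m (S.code.act u x)) :
    ∃ p < 128, fx p = true ∧ u * el3 a n * u⁻¹ = T.pr (p, m) ∧ pm (p, m) (pm (p, m) (p, m)) = (0, 0) := by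
  have hnz := T.z_comm_el3 hn
  have hmz := T.z_comm_el3 hm
  set w := u * el3 a n * u⁻¹ with hw
  have hwz : w * z = z * w := comm_mul (comm_mul hu hnz) (comm_inv hu)
  have hact : ∀ x < 2 ^ K6.n, S.code.act w x = rot m x := fun x hx => by
    have hl := S.code.act_lt (comm_inv hu) x
    rw [hw, S.code.act_mul (comm_mul hu hnz) (comm_inv hu) hx, S.code.act_mul hu hnz hl, T.act_el3 hn hl, e _ hl,
      S.code.act_inv_right hu hx]
  have hQ : w * (el3 a m)⁻¹ ∈ Q := (S.code.mem_iff (comm_mul hwz (comm_inv hmz))).2 fun x hx => by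
    have hl := S.code.act_lt (comm_inv hmz) x
    rw [S.code.act_mul hwz (comm_inv hmz) hx, hact _ hl, ← T.act_el3 hm hl, S.code.act_inv_right hmz hx]
  have hwa : Commute w (a 0) :=
    ((show Commute u (a 0) from hc).mul_left (T.el3_comm_a0 hn)).mul_left (show Commute u (a 0) from hc).inv_left
  obtain ⟨p, hp, hfp, he⟩ := T.exists_fx hQ (hwa.mul_left (show Commute (el3 a m) (a 0) from T.el3_comm_a0 hm).inv_left).eq
  have hwe : w = T.pr (p, m) := by unfold pr; rw [he, inv_mul_cancel_right]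
  have hpm : (pm (p, m) (p, m)).1 < 128 ∧ (pm (p, m) (p, m)).2 < 27 := T.pm_lt (u := (p, m)) ⟨hp, hm⟩ hm
  refine ⟨p, hp, hfp, hwe, T.pr_inj (T.pm_lt (u := (p, m)) ⟨hp, hm⟩ hpm.2) ⟨by norm_num, by norm_num⟩ ?_⟩
  rw [← T.pr_mul (u := (p, m)) hm hpm.2, ← T.pr_mul (u := (p, m)) (v := (p, m)) hm hm, T.pr_one, ← hwe, hw,
    conj_mul, conj_mul, ← pow_three, T.el3_cube, mul_one, mul_inv_cancel]

theorem conj_pr (T : Tri S a b) {r r' p m : ℕ} (hm : m < 27) (hrr : mulP K6 r r' = 0)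
    (hp : mulP K6 r (ap K6 (hA m) r') = p) :
    el S.code r * el3 a m * (el S.code r)⁻¹ = T.pr (p, m) := by
  have hinv : (el S.code r)⁻¹ = el S.code r' := inv_eq_of_mul_eq_one_right (by rw [el_mul, hrr, el_zero])
  unfold pr
  rw [hinv, ← hp, ← el_mul, ← (T.hat_el3 hm).app r']
  group

theorem el3_comm_el (T : Tri S a b) {r m : ℕ} (hm : m < 27) (h : ap K6 (hA m) r = r) :
    Commute (el S.code r) (el3 a m) := by
  have e := (T.hat_el3 hm).app r
  rw [h] at e
  exact (mul_inv_eq_iff_eq_mul.1 e).symm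

/-- The centralizer of the first rotation in the centralizer of `z`. -/
theorem decomp_cent (T : Tri S a b) {u : G} (hu : u * z = z * u) (hc : u * a 0 = a 0 * u) :
    ∃ p < 128, fx p = true ∧ ∃ v ∈ T.N, v * a 0 = a 0 * v ∧ u = el S.code p * v := by
  have hr4z := (T.hat_rep (show 4 < 24 by norm_num)).comm
  have hr4N := T.rep_mem (show 4 < 24 by norm_num)
  have hr4a : rep b 4 * a 0 = a 0 * rep b 4 := by
    have := (T.prm_spec (show 4 < 24 by norm_num) (show 0 < 6 by norm_num)).2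
    rw [swap_ok.1, show el3 a (six 0) = a 0 from el3_single (i := 0) (by norm_num)] at this
    exact mul_inv_eq_iff_eq_mul.1 this
  -- put the second plane in its place
  obtain ⟨r, hrN, hra, h7⟩ : ∃ r ∈ T.N, r * a 0 = a 0 * r ∧ S.code.act (r * u) 7 ∈ [7, 10, 13] := by
    have h7 : S.code.act u 7 ∈ sixP := six_pts _ (S.code.act_lt hu 7)
      (by rw [← T.rot_comm hu hc (by decide), gens_cover.2.2 7 (by simp)])
      (by rw [S.code.act_q hu (by decide)]; decide +kernel)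
    by_cases hs : S.code.act u 7 ∈ [7, 10, 13]
    · exact ⟨1, one_mem _, by simp, by rw [one_mul]; exact hs⟩
    · refine ⟨rep b 4, hr4N, hr4a, ?_⟩
      rw [S.code.act_mul hr4z hu (by decide), (T.hat_rep (show 4 < 24 by norm_num)).act_eq (S.code.act_lt hu 7)]
      refine swap_ok.2 _ ?_
      simp only [sixP, List.mem_cons, List.not_mem_nil, or_false] at h7 hs ⊢
      tauto
  have hrz := (T.mem_N.1 hrN).1
  set u' := r * u with hu'
  have hu'z : u' * z = z * u' := comm_mul hrz hu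
  have hu'c : u' * a 0 = a 0 * u' := ((show Commute r (a 0) from hra).mul_left (show Commute u (a 0) from hc)).eq
  obtain ⟨⟨m1, hm1, e1⟩, m2, hm2, e2⟩ := T.exists_turn hu'z hu'c h7
  have hl1 : m1 < 27 := by simp at hm1; omega
  have hl2 : m2 < 27 := by simp at hm2; omega
  obtain ⟨p1, hp1, hf1, w1, c1⟩ := T.conj_form hu'z hu'c (by norm_num) hl1 e1
  obtain ⟨p2, hp2, hf2, w2, c2⟩ := T.conj_form hu'z hu'c (by norm_num) hl2 e2
  obtain ⟨r1, hr1, r1', -, i1, k1⟩ := conj_ok.1 p1 hp1 hf1 m1 hm1 c1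
  obtain ⟨r2, hr2, r2', -, i2, k2⟩ := conj_ok.2 p2 hp2 hf2 m2 hm2 c2
  obtain ⟨l1, l2, f1, f2, hco, q1, q2⟩ := qAB_ok r1 hr1 r2 hr2
  set c := el S.code r1 * el S.code r2 with hcdef
  have hcc : Commute (el S.code r1) (el S.code r2) := by
    show _ * _ = _ * _
    rw [el_mul, el_mul, hco]
  have hcQ : c ∈ Q := mul_mem (el_mem S.code _) (el_mem S.code _)
  have hca : Commute c (a 0) :=
    (show Commute _ (a 0) from (T.fx_iff l1).1 f1).mul_left (show Commute _ (a 0) from (T.fx_iff l2).1 f2)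
  set v := c⁻¹ * u' with hv
  have hvz : v * z = z * v := comm_mul (comm_inv (S.code.ext.central c hcQ)) hu'z
  have hva : Commute v (a 0) := hca.inv_left.mul_left hu'c
  have v1 : v * a 1 * v⁻¹ = el3 a m1 := by
    have hk := T.conj_pr hl1 i1 k1
    rw [← w1, show el3 a 3 = a 1 from el3_single (i := 1) (by norm_num)] at hk
    calc v * a 1 * v⁻¹ = c⁻¹ * (u' * a 1 * u'⁻¹) * c := by rw [hv]; group
      _ = (el S.code r2)⁻¹ * el3 a m1 * el S.code r2 := by rw [← hk, hcdef]; group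
      _ = _ := by rw [mul_assoc, ← (T.el3_comm_el hl1 (q2 m1 hm1)).eq, inv_mul_cancel_left]
  have v2 : v * a 2 * v⁻¹ = el3 a m2 := by
    have hk := T.conj_pr hl2 i2 k2
    rw [← w2, show el3 a 9 = a 2 from el3_single (i := 2) (by norm_num)] at hk
    calc v * a 2 * v⁻¹ = c⁻¹ * (u' * a 2 * u'⁻¹) * c := by rw [hv]; group
      _ = (el S.code r1)⁻¹ * el3 a m2 * el S.code r1 := by
          rw [← hk, hcdef, hcc.eq]; group
      _ = _ := by rw [mul_assoc, ← (T.el3_comm_el hl2 (q1 m2 hm2)).eq, inv_mul_cancel_left]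
  have v0 : v * a 0 * v⁻¹ = a 0 := mul_inv_eq_iff_eq_mul.2 hva
  have hvN : v ∈ T.N := T.mem_N.2 ⟨hvz, mem_norm_of fun x ⟨n, hn, e⟩ => by
    rw [← e, el3, ← conj_mul, ← conj_mul, ← conj_pow, ← conj_pow, ← conj_pow, v0, v1, v2]
    exact mul_mem (pow_mem (T.a_mem (by norm_num)) _)
      (mul_mem (pow_mem (T.el3_mem hl1) _) (pow_mem (T.el3_mem hl2) _))⟩
  have hdQ : r⁻¹ * c * r ∈ Q := by simpa using S.code.ext.norm r⁻¹ (comm_inv hrz) c hcQ
  obtain ⟨p, hp, hfp, he⟩ := T.exists_fx hdQ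
    (((show Commute r (a 0) from hra).inv_left.mul_left hca).mul_left (show Commute r (a 0) from hra)).eq
  refine ⟨p, hp, hfp, r⁻¹ * v, mul_mem (inv_mem hrN) hvN,
    ((show Commute r (a 0) from hra).inv_left.mul_left hva).eq, ?_⟩
  rw [he, hv, hu']; group

/-- The image of an element of the product of the normal part. -/
theorem conj_form_pr (T : Tri S a b) {u : G} (hu : u * z = z * u) (hc : u * a 0 = a 0 * u) {p n : ℕ}
    (hp : p < 128) (hfp : fx p = true) (hn : n < 27) :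
    ∃ p' < 128, ∃ n' < 27, fx p' = true ∧ u * T.pr (p, n) * u⁻¹ = T.pr (p', n') := by
  obtain ⟨r, hr, hfr, v, hv, hva, rfl⟩ := T.decomp_cent hu hc
  obtain ⟨n', hn', en⟩ := T.N_conj hv (T.el3_mem hn)
  have hrQ := el_mem S.code r
  set w := el S.code r * (v * el S.code p * v⁻¹) * (el3 a n' * (el S.code r)⁻¹ * (el3 a n')⁻¹) with hw
  have hwQ : w ∈ Q := mul_mem (mul_mem hrQ (S.code.ext.norm v (T.mem_N.1 hv).1 _ (el_mem S.code p)))
    (S.code.ext.norm _ (T.z_comm_el3 hn') _ (inv_mem hrQ))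
  have cr : Commute (el S.code r) (a 0) := (T.fx_iff hr).1 hfr
  have cp : Commute (el S.code p) (a 0) := (T.fx_iff hp).1 hfp
  have cv : Commute v (a 0) := hva
  have c3 : Commute (el3 a n') (a 0) := T.el3_comm_a0 hn'
  obtain ⟨p', hp', hfp', he⟩ := T.exists_fx hwQ
    ((cr.mul_left ((cv.mul_left cp).mul_left cv.inv_left)).mul_left ((c3.mul_left cr.inv_left).mul_left c3.inv_left)).eq
  refine ⟨p', hp', n', hn', hfp', ?_⟩
  unfold pr
  rw [he, hw, en]
  group

theorem orbit_N (T : Tri S a b) : Nat.card (cx T.N (a 0)) = 216 := by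
  have h := OGrp.orbit_eq (a 0) T.N
  rw [T.card_N, OGrp.orbit_six T] at h
  omega

/-- The order of the centralizer of the first rotation in the centralizer of `z`. -/
theorem card_cent (T : Tri S a b) : Nat.card (cx (Subgroup.centralizer ({z} : Set G)) (a 0)) = 3456 := by
  classical
  set B := cx (Subgroup.centralizer ({z} : Set G)) (a 0) with hB
  set R := cx Q (a 0) with hR
  have hRc : Nat.card R = 32 := by
    have : Function.Bijective (fun p : {p : Fin 128 // fx p.val = true} =>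
        (⟨el S.code p.1.val, mem_cx.2 ⟨el_mem S.code _, (T.fx_iff p.1.2).1 p.2⟩⟩ : R)) := by
      refine ⟨fun p q e => Subtype.ext (Fin.ext (el_inj S.code p.1.2 q.1.2 (congrArg Subtype.val e))), ?_⟩
      rintro ⟨w, hw⟩
      obtain ⟨hwQ, hwc⟩ := mem_cx.1 hw
      obtain ⟨p, hp, hfp, he⟩ := T.exists_fx hwQ hwc
      exact ⟨⟨⟨p, hp⟩, hfp⟩, Subtype.ext he⟩
    rw [← Nat.card_eq_of_bijective _ this, Nat.card_eq_fintype_card, card_fx]
  have hRB : R ≤ B := fun w hw => mem_cx.2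
    ⟨Subgroup.mem_centralizer_singleton_iff.2 (S.code.ext.central w (mem_cx.1 hw).1), (mem_cx.1 hw).2⟩
  have hNB : cx T.N (a 0) ≤ B := inf_le_inf_right _ T.N_le
  haveI hn : (R.subgroupOf B).Normal := ⟨fun w hw v => by
    rw [Subgroup.mem_subgroupOf] at hw ⊢
    obtain ⟨hwQ, hwc⟩ := mem_cx.1 hw
    obtain ⟨hvz, hvc⟩ := mem_cx.1 v.2
    refine mem_cx.2 ⟨S.code.ext.norm _ (Subgroup.mem_centralizer_singleton_iff.1 hvz) _ hwQ, ?_⟩
    exact (((show Commute (v : G) (a 0) from hvc).mul_left (show Commute (w : G) (a 0) from hwc)).mul_left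
      (show Commute (v : G) (a 0) from hvc).inv_left).eq⟩
  let φ : cx T.N (a 0) →* B ⧸ R.subgroupOf B :=
    (QuotientGroup.mk' (R.subgroupOf B)).comp (Subgroup.inclusion hNB)
  have hsurj : Function.Surjective φ := by
    intro x
    obtain ⟨⟨u, hu⟩, rfl⟩ := QuotientGroup.mk'_surjective _ x
    obtain ⟨hu1, hu2⟩ := mem_cx.1 hu
    obtain ⟨p, hp, hfp, v, hv, hva, rfl⟩ := T.decomp_cent (Subgroup.mem_centralizer_singleton_iff.1 hu1) hu2
    refine ⟨⟨v, mem_cx.2 ⟨hv, hva⟩⟩, QuotientGroup.eq.2 ?_⟩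
    rw [Subgroup.mem_subgroupOf]
    show v⁻¹ * (el S.code p * v) ∈ R
    refine mem_cx.2 ⟨?_, ?_⟩
    · simpa [mul_assoc] using S.code.ext.norm v⁻¹ (comm_inv (T.mem_N.1 hv).1) _ (el_mem S.code p)
    · exact ((show Commute v (a 0) from hva).inv_left.mul_left
        ((show Commute _ (a 0) from (T.fx_iff hp).1 hfp).mul_left (show Commute v (a 0) from hva))).eq
  have hker : φ.ker = (Subgroup.zpowers z).subgroupOf (cx T.N (a 0)) := by
    ext w
    rw [MonoidHom.mem_ker, Subgroup.mem_subgroupOf]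
    show QuotientGroup.mk (Subgroup.inclusion hNB w) = (1 : B ⧸ R.subgroupOf B) ↔ _
    rw [QuotientGroup.eq_one_iff, Subgroup.mem_subgroupOf]
    show (w : G) ∈ R ↔ (w : G) ∈ Subgroup.zpowers z
    constructor
    · intro hw
      obtain ⟨hwQ, -⟩ := mem_cx.1 hw
      obtain ⟨hwN, -⟩ := mem_cx.1 w.2
      have hcA : ∀ x ∈ T.A0, (w : G) * x = x * (w : G) := fun x hx => by
        refine mul_inv_eq_iff_eq_mul.1 (mul_inv_eq_one.1 (T.eq_one_of_Q ?_
          (mul_mem (T.N_conj hwN hx) (inv_mem hx))))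
        rw [show (w : G) * x * (w : G)⁻¹ * x⁻¹ = w * (x * (w : G)⁻¹ * x⁻¹) by group]
        exact mul_mem hwQ (S.code.ext.norm x (Subgroup.mem_centralizer_singleton_iff.1 (T.A0_le hx)) _ (inv_mem hwQ))
      obtain ⟨n, hn', e, -, hwe⟩ := T.cent_A0 (S.code.ext.central _ hwQ) hcA
      have h1 : el3 a n = 1 := T.eq_one_of_Q (by
        rw [show el3 a n = (w : G) * (z ^ e)⁻¹ by rw [hwe, mul_inv_cancel_right]]
        exact mul_mem hwQ (inv_mem (pow_mem S.code.ext.mem e))) (T.el3_mem hn')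
      rw [hwe, h1, one_mul]
      exact pow_mem (Subgroup.mem_zpowers z) e
    · intro hw
      obtain ⟨i, hi⟩ := Subgroup.mem_zpowers_iff.1 hw
      refine mem_cx.2 ⟨hi ▸ zpow_mem S.code.ext.mem i, (mem_cx.1 w.2).2⟩
  have hzN : Subgroup.zpowers z ≤ cx T.N (a 0) := Subgroup.zpowers_le.2
    (mem_cx.2 ⟨T.z_mem_N, (T.ha 0 (by norm_num)).comm.symm⟩)
  have h1 := Subgroup.card_eq_card_quotient_mul_card_subgroup φ.ker
  rw [Nat.card_congr (QuotientGroup.quotientKerEquivOfSurjective φ hsurj).toEquiv, hker,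
    Nat.card_congr (Subgroup.subgroupOfEquivOfLe hzN).toEquiv, Nat.card_zpowers, S.code.ord, T.orbit_N] at h1
  have h2 := Subgroup.card_eq_card_quotient_mul_card_subgroup (R.subgroupOf B)
  rw [Nat.card_congr (Subgroup.subgroupOfEquivOfLe hRB).toEquiv, hRc] at h2
  omega

end Tri

end Cfsg.Agent.Invol.Suz.Loc.Three
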