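import Cfsg.Agent.Lib.Invol.Suz.Loc.UFour.Decomp
import Cfsg.Agent.Lib.Spor.UFourType.Final

/-!
# The quotient of the centralizer of one rotation is of unitary type
-/

set_option autoImplicit false
set_option linter.unusedSectionVars false
set_option linter.style.haveILetI false
set_option maxRecDepth 100000

namespace Cfsg.Agent.Invol.Suz.Loc.Three

open Cfsg Cfsg.Agent.Classical.BinCoc Cfsg.Agent.Invol.Big Cfsg.Agent.Invol.Big.Code Cfsg.Agent.Invol.Suz.Loc UFour
  Cfsg.Agent.Spor.UFourType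

section Quot

variable {G : Type*} [Group G]

/-- The centralizer of a cyclic group. -/
abbrev CL (x : G) : Subgroup G := Subgroup.centralizer ((Subgroup.zpowers x : Subgroup G) : Set G)

theorem mem_CL {x u : G} : u ∈ CL x ↔ u * x = x * u := by
  rw [CL, Subgroup.zpowers_eq_closure, Subgroup.centralizer_closure, Subgroup.mem_centralizer_singleton_iff]

instance normal_CL (x : G) : ((Subgroup.zpowers x).subgroupOf (CL x)).Normal := ⟨fun n hn v => by
  rw [Subgroup.mem_subgroupOf] at hn ⊢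
  show (v : G) * (n : G) * (v : G)⁻¹ ∈ Subgroup.zpowers x
  rw [← Subgroup.mem_centralizer_iff.1 v.2 _ hn, mul_inv_cancel_right]
  exact hn⟩

/-- The quotient of the centralizer by the cyclic group. -/
abbrev QL (x : G) : Type _ := ↥(CL x) ⧸ (Subgroup.zpowers x).subgroupOf (CL x)

open _root_.Classical in
/-- The image of an element of the centralizer. -/
noncomputable def qL (x u : G) : QL x :=
  if h : u ∈ CL x then QuotientGroup.mk ⟨u, h⟩ else 1

theorem qL_mul {x u v : G} (hu : u * x = x * u) (hv : v * x = x * v) : qL x (u * v) = qL x u * qL x v := by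
  rw [qL, qL, qL, dif_pos (mem_CL.2 hu), dif_pos (mem_CL.2 hv), dif_pos (mul_mem (mem_CL.2 hu) (mem_CL.2 hv))]
  rfl

theorem qL_inv {x u : G} (hu : u * x = x * u) : qL x u⁻¹ = (qL x u)⁻¹ := by
  rw [qL, qL, dif_pos (mem_CL.2 hu), dif_pos (inv_mem (mem_CL.2 hu))]
  rfl

theorem qL_one (x : G) : qL x (1 : G) = 1 := by
  rw [qL, dif_pos (one_mem _)]; rfl

theorem qL_surj {x : G} (y : QL x) : ∃ u, u * x = x * u ∧ qL x u = y := by
  obtain ⟨⟨u, hu⟩, rfl⟩ := QuotientGroup.mk_surjective y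
  exact ⟨u, mem_CL.1 hu, by rw [qL, dif_pos hu]⟩

theorem qL_eq {x u v : G} (hu : u * x = x * u) (hv : v * x = x * v) :
    qL x u = qL x v ↔ u⁻¹ * v ∈ Subgroup.zpowers x := by
  rw [qL, qL, dif_pos (mem_CL.2 hu), dif_pos (mem_CL.2 hv), QuotientGroup.eq]
  rfl

end Quot

variable {G : Type*} [Group G] [Finite G] {z : G} {Q : Subgroup G} {cd : G → ℕ}
variable {S : Setting z Q cd} {a b : ℕ → G}

namespace Tri

theorem pr_mem (T : Tri S a b) {u : ℕ × ℕ} (hu : u.1 < 128 ∧ u.2 < 27) (hf : fx u.1 = true) :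
    T.pr u * a 0 = a 0 * T.pr u :=
  ((show Commute _ (a 0) from (T.fx_iff hu.1).1 hf).mul_left (T.el3_comm_a0 hu.2)).eq

theorem z_comm_a0 (T : Tri S a b) : z * a 0 = a 0 * z := (T.ha 0 (by norm_num)).comm.symm

theorem qL_pr_eq (T : Tri S a b) {u v : ℕ × ℕ} (hu : u.1 < 128 ∧ u.2 < 27) (hv : v.1 < 128 ∧ v.2 < 27)
    (hfu : fx u.1 = true) (hfv : fx v.1 = true) (e : qL (a 0) (T.pr u) = qL (a 0) (T.pr v)) :
    ∃ k < 3, (u.1, add u.2 k) = v := by
  obtain ⟨k, hk, hk'⟩ := T.mem_zpowers_a0 ((qL_eq (T.pr_mem hu hfu) (T.pr_mem hv hfv)).1 e)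
  refine ⟨k, hk, T.pr_inj ⟨hu.1, (T.el3_mul hu.2 (by omega : k < 27)).1⟩ hv ?_⟩
  rw [← T.pr_snd hu.2 (by omega : k < 27), T.el3_small hk, hk', show (u.1, u.2) = u from rfl, mul_inv_cancel_left]

theorem qL_el_inj (T : Tri S a b) {p p' : ℕ} (hp : p < 128) (hp' : p' < 128) (hf : fx p = true)
    (hf' : fx p' = true) (e : qL (a 0) (el S.code p) = qL (a 0) (el S.code p')) : p = p' := by
  obtain ⟨k, -, hk⟩ := T.qL_pr_eq (u := (p, 0)) (v := (p', 0)) ⟨hp, by norm_num⟩ ⟨hp', by norm_num⟩ hf hf'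
    (by simpa [pr, el3_zero] using e)
  exact congrArg Prod.fst hk

/-- The first table in the quotient. -/
noncomputable def xq (T : Tri S a b) (i : ℕ) : QL (a 0) := qL (a 0) (T.pr (xt i))

/-- The second table in the quotient. -/
noncomputable def yq (T : Tri S a b) (i : ℕ) : QL (a 0) := qL (a 0) (T.pr (yt i))

theorem xt_spec (T : Tri S a b) {i : ℕ} (hi : i < 24) :
    T.pr (xt i) * a 0 = a 0 * T.pr (xt i) ∧ T.pr (yt i) * a 0 = a 0 * T.pr (yt i) := by
  obtain ⟨⟨h1, h2, h3⟩, h4, h5, h6⟩ := tab_lt i hi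
  exact ⟨T.pr_mem ⟨h1, h2⟩ h3, T.pr_mem ⟨h4, h5⟩ h6⟩

theorem stab_x (T : Tri S a b) : STab T.xq where
  inj := fun i hi j hj e => by
    obtain ⟨⟨h1, h2, h3⟩, -⟩ := tab_lt i hi
    obtain ⟨⟨k1, k2, k3⟩, -⟩ := tab_lt j hj
    obtain ⟨k, hk, e'⟩ := T.qL_pr_eq ⟨h1, h2⟩ ⟨k1, k2⟩ h3 k3 e
    exact (tab_sep i hi j hj k hk).1 e'
  mul := fun i hi j hj => by
    rw [xq, xq, xq, ← (tab_mul i hi j hj).1, ← T.pr_mul (tab_lt i hi).1.2.1 (tab_lt j hj).1.2.1,
      qL_mul (T.xt_spec hi).1 (T.xt_spec hj).1]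

theorem stab_y (T : Tri S a b) : STab T.yq where
  inj := fun i hi j hj e => by
    obtain ⟨-, h1, h2, h3⟩ := tab_lt i hi
    obtain ⟨-, k1, k2, k3⟩ := tab_lt j hj
    obtain ⟨k, hk, e'⟩ := T.qL_pr_eq ⟨h1, h2⟩ ⟨k1, k2⟩ h3 k3 e
    exact (tab_sep i hi j hj k hk).2.1 e'
  mul := fun i hi j hj => by
    rw [yq, yq, yq, ← (tab_mul i hi j hj).2.1, ← T.pr_mul (tab_lt i hi).2.2.1 (tab_lt j hj).2.2.1,
      qL_mul (T.xt_spec hi).2 (T.xt_spec hj).2]

theorem xy_comm (T : Tri S a b) {i j : ℕ} (hi : i < 24) (hj : j < 24) : Commute (T.xq i) (T.yq j) := by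
  show T.xq i * T.yq j = T.yq j * T.xq i
  rw [xq, yq, ← qL_mul (T.xt_spec hi).1 (T.xt_spec hj).2, ← qL_mul (T.xt_spec hj).2 (T.xt_spec hi).1,
    T.pr_mul (tab_lt i hi).1.2.1 (tab_lt j hj).2.2.1, T.pr_mul (tab_lt j hj).2.2.1 (tab_lt i hi).1.2.1,
    (tab_mul i hi j hj).2.2]

theorem xy_el (T : Tri S a b) {r s : ℕ} (hr : r ∈ q8L) (hs : s ∈ q8L) :
    T.xq r * T.yq s = qL (a 0) (el S.code (mulP K6 (xt r).1 (yt s).1)) := by
  have hr' := mem_q8L_lt r hr
  have hs' := mem_q8L_lt s hs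
  obtain ⟨h0, h0'⟩ := tab_special.2.2.1 r hr
  obtain ⟨-, h1'⟩ := tab_special.2.2.1 s hs
  rw [xq, yq, ← qL_mul (T.xt_spec hr').1 (T.xt_spec hs').2, ← el_mul]
  congr 1
  simp [pr, h0, h1', el3_zero]

theorem inQ_iff (T : Tri S a b) (v : QL (a 0)) :
    InQ T.xq T.yq v ↔ ∃ p < 128, fx p = true ∧ qL (a 0) (el S.code p) = v := by
  constructor
  · rintro ⟨r, hr, s, hs, rfl⟩
    exact ⟨_, mulP_lt (K := K6) (tab_lt r (mem_q8L_lt r hr)).1.1 (tab_lt s (mem_q8L_lt s hs)).2.1,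
      inQ_fx r hr s hs, (T.xy_el hr hs).symm⟩
  · rintro ⟨p, hp, hf, rfl⟩
    obtain ⟨r, hr, s, hs, e⟩ := cover_ok p hp hf
    exact ⟨r, hr, s, hs, by rw [T.xy_el hr hs, e]⟩

theorem memK (T : Tri S a b) {p n : ℕ} (hp : p < 128) (hf : fx p = true) (hn : n < 27) :
    ∃ c < 24, ∃ d < 24, qL (a 0) (T.pr (p, n)) = T.xq c * T.yq d := by
  obtain ⟨r, hr, s, hs, e⟩ := cover_ok p hp hf
  have hd : ∀ i, dig i n < 3 := fun i => dig_lt i n
  obtain ⟨hx1, hxe, -⟩ := tab_special.2.2.2.1 _ (hd 1)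
  obtain ⟨hy1, -, hye⟩ := tab_special.2.2.2.1 _ (hd 2)
  have hea : ∀ m < 27, el3 a m * a 0 = a 0 * el3 a m := fun m hm => T.el3_comm_a0 hm
  have h3 : 3 * dig 1 n < 27 := by have := hd 1; omega
  have h9 : 9 * dig 2 n < 27 := by have := hd 2; omega
  have h0 : dig 0 n < 27 := by have := hd 0; omega
  have hk : qL (a 0) (el3 a (dig 0 n)) = 1 := by
    rw [← qL_one (a 0), qL_eq (hea _ h0) (by simp), mul_one, T.el3_small (hd 0)]
    exact inv_mem (pow_mem (Subgroup.mem_zpowers _) _)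
  have hn' : qL (a 0) (el3 a n) = T.xq (4 * dig 1 n) * T.yq (4 * dig 2 n) := by
    rw [xq, yq, hxe, hye, pr, pr, el_zero, one_mul, one_mul]
    conv_lhs => rw [← tab_special.2.2.2.2 n hn]
    rw [← (T.el3_mul h3 (T.el3_mul h9 h0).1).2, ← (T.el3_mul h9 h0).2,
      qL_mul (hea _ h3) ((show Commute _ (a 0) from hea _ h9).mul_left (hea _ h0)).eq,
      qL_mul (hea _ h9) (hea _ h0), hk, mul_one]
  refine ⟨_, sMul_lt r (mem_q8L_lt r hr) _ hx1, _, sMul_lt s (mem_q8L_lt s hs) _ hy1, ?_⟩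
  rw [T.stab_x.mul r (mem_q8L_lt r hr) _ hx1, T.stab_y.mul s (mem_q8L_lt s hs) _ hy1,
    ← (T.xy_comm hx1 (mem_q8L_lt s hs)).symm.mul_mul_mul_comm, T.xy_el hr hs, e, ← hn', pr,
    qL_mul ((T.fx_iff hp).1 hf) (hea n hn)]

theorem qL_comm_z (T : Tri S a b) {u : G} (hu : u * a 0 = a 0 * u) :
    Commute (qL (a 0) u) (qL (a 0) z) ↔ u * z = z * u := by
  constructor
  · intro h
    have hz := T.z_comm_a0
    have cu : Commute u (a 0) := hu
    have cz : Commute z (a 0) := hz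
    have h2 : qL (a 0) (u * z) = qL (a 0) (z * u) := by rw [qL_mul hu hz, qL_mul hz hu]; exact h
    obtain ⟨k, hk, e⟩ := T.mem_zpowers_a0 ((qL_eq (cu.mul_left cz).eq (cz.mul_left cu).eq).1 h2)
    have e1 : u⁻¹ * z * u = z * a 0 ^ k := by
      rw [e, show z * ((u * z)⁻¹ * (z * u)) = z * z⁻¹ * (u⁻¹ * z * u) by group, mul_inv_cancel, one_mul]
    have e2 : (z * a 0 ^ k) * (z * a 0 ^ k) = 1 := by
      rw [← e1, show u⁻¹ * z * u * (u⁻¹ * z * u) = u⁻¹ * (z * z) * u by group, S.code.ext.zz]; group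
    have e3 : a 0 ^ (k + k) = 1 := by
      rw [(cz.pow_right k).symm.mul_mul_mul_comm z (a 0 ^ k), S.code.ext.zz, one_mul, ← pow_add] at e2
      exact e2
    have hk0 : k = 0 := by
      have := orderOf_dvd_of_pow_eq_one e3
      rw [T.orderOf_a0] at this
      omega
    rw [hk0, pow_zero, mul_one] at e1
    calc u * z = u * (u⁻¹ * z * u) := by rw [e1]
      _ = z * u := by group
  · intro h
    show _ = _
    rw [← qL_mul hu T.z_comm_a0, ← qL_mul T.z_comm_a0 hu, h]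

theorem lift (T : Tri S a b) {h : QL (a 0)} (hh : Commute h (qL (a 0) z)) :
    ∃ u, u * z = z * u ∧ u * a 0 = a 0 * u ∧ qL (a 0) u = h := by
  obtain ⟨u, hu, rfl⟩ := qL_surj h
  exact ⟨u, (T.qL_comm_z hu).1 hh, hu, rfl⟩

theorem el_comm_a0 (T : Tri S a b) {p : ℕ} (hp : p < 128) (hf : fx p = true) :
    el S.code p * a 0 = a 0 * el S.code p := (T.fx_iff hp).1 hf

theorem qL_conj (_T : Tri S a b) {u v : G} (hu : u * a 0 = a 0 * u) (hv : v * a 0 = a 0 * v) :
    qL (a 0) (u * v * u⁻¹) = qL (a 0) u * qL (a 0) v * (qL (a 0) u)⁻¹ := by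
  rw [qL_mul ((show Commute u (a 0) from hu).mul_left (show Commute v (a 0) from hv)).eq
    (show Commute u (a 0) from hu).inv_left.eq, qL_mul hu hv, qL_inv hu]

theorem conj_el (T : Tri S a b) {u : G} (hu : u * z = z * u) (hc : u * a 0 = a 0 * u) {p : ℕ} (hp : p < 128)
    (hf : fx p = true) : ∃ p' < 128, fx p' = true ∧ u * el S.code p * u⁻¹ = el S.code p' := by
  obtain ⟨p', hp', hf', e⟩ := T.exists_fx (S.code.ext.norm u hu _ (el_mem S.code p))
    (((show Commute u (a 0) from hc).mul_left (T.el_comm_a0 hp hf)).mul_left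
      (show Commute u (a 0) from hc).inv_left).eq
  exact ⟨p', hp', hf', e.symm⟩

theorem self_cent_Q (T : Tri S a b) {u : G} (hu : u * z = z * u) (hc : u * a 0 = a 0 * u)
    (hall : ∀ p < 128, fx p = true → u * el S.code p * u⁻¹ = el S.code p) :
    qL (a 0) u = 1 ∨ qL (a 0) u = qL (a 0) z := by
  obtain ⟨p, hp, hfp, v, hv, hva, rfl⟩ := T.decomp_cent hu hc
  obtain ⟨k, hk, n, hn, e, he, rfl⟩ := T.exists_rep hv
  have hk0 : prm k 0 = 0 := by
    have h6 := T.conj_six (e := e) hk hn (show 0 < 6 by norm_num)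
    rw [show el3 a (six 0) = a 0 from el3_single (i := 0) (by norm_num), mul_inv_eq_iff_eq_mul.2 hva] at h6
    have hl := (T.prm_spec hk (show 0 < 6 by norm_num)).1
    refine (six_inj 0 (by norm_num) _ hl (T.el3_hat_inj (six_lt 0 (by norm_num)) (six_lt _ hl) ?_)).symm
    rw [show el3 a (six 0) = a 0 from el3_single (i := 0) (by norm_num)]
    exact h6
  have hrz := (T.hat_rep hk).comm
  have hez := T.z_comm_el3 hn
  have hzz : z ^ e * z = z * z ^ e := ((Commute.refl z).pow_left e).eq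
  obtain ⟨hk1, hn1⟩ : k = 0 ∧ n < 3 := by
    refine self_ok k hk n hn hk0 ?_
    simp only [List.all_eq_true, beq_iff_eq]
    intro x hx
    have hx' : x < 2 ^ K6.n ∧ 2 * x < 128 ∧ fx (2 * x) = true := by
      revert hx; revert x; decide +kernel
    obtain ⟨hxl, hx2, hxf⟩ := hx'
    have hh := congrArg cd (hall _ hx2 hxf)
    rw [← S.code.act_cd hu (el_mem S.code _), cd_el S.code hx2, Nat.mul_div_cancel_left _ two_pos] at hh
    have h2 : ∀ y < 2 ^ K6.n, S.code.act (el S.code p) y = y :=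
      (S.code.mem_iff (S.code.ext.central _ (el_mem S.code p))).1 (el_mem S.code p)
    have h3 : ∀ y < 2 ^ K6.n, S.code.act (z ^ e) y = y :=
      (S.code.mem_iff hzz).1 (pow_mem S.code.ext.mem e)
    have hvz : rep b k * (el3 a n * z ^ e) * z = z * (rep b k * (el3 a n * z ^ e)) :=
      comm_mul hrz (comm_mul hez hzz)
    rw [S.code.act_mul (S.code.ext.central _ (el_mem S.code p)) hvz hxl, h2 _ (S.code.act_lt hvz x),
      S.code.act_mul hrz (comm_mul hez hzz) hxl, S.code.act_mul hez hzz hxl, h3 x hxl, T.act_el3 hn hxl,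
      (T.hat_rep hk).act_eq (T.act_el3 hn hxl ▸ S.code.act_lt hez x)] at hh
    exact hh
  subst hk1
  have hr0 : rep b 0 = (1 : G) := by simp [rep, sEl, pEl]
  rw [hr0, one_mul] at hc hu hall hva ⊢
  obtain ⟨p2, hp2, hf2, ep⟩ := T.exists_fx (mul_mem (el_mem S.code p) (pow_mem S.code.ext.mem e))
    ((show Commute _ (a 0) from T.el_comm_a0 hp hfp).mul_left
      ((show Commute z (a 0) from T.z_comm_a0).pow_left e)).eq
  have hn3 : el3 a n = a 0 ^ n := T.el3_small hn1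
  have hre : el S.code p * (el3 a n * z ^ e) = el S.code p2 * a 0 ^ n := by
    rw [ep, hn3, ((show Commute z (a 0) from T.z_comm_a0).pow_pow e n).symm.eq, mul_assoc]
  rw [hre] at hall ⊢
  have hq : qL (a 0) (el S.code p2 * a 0 ^ n) = qL (a 0) (el S.code p2) := by
    rw [qL_eq ((show Commute _ (a 0) from T.el_comm_a0 hp2 hf2).mul_left
      ((Commute.refl (a 0)).pow_left n)).eq (T.el_comm_a0 hp2 hf2), mul_inv_rev, inv_mul_cancel_right]
    exact inv_mem (pow_mem (Subgroup.mem_zpowers _) _)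
  have hlt2 : p2 < 2 := by
    refine center_fx p2 hp2 hf2 ?_
    simp only [List.all_eq_true, List.mem_range, Bool.or_eq_true, Bool.not_eq_true', beq_iff_eq]
    intro r hr
    by_cases hfr : fx r = true
    · refine Or.inr (el_inj S.code (mulP_lt (K := K6) hp2 hr) (mulP_lt (K := K6) hr hp2) ?_)
      have h1 := hall r hr hfr
      have hca : Commute (a 0 ^ n) (el S.code r) :=
        (show Commute (a 0) (el S.code r) from (T.el_comm_a0 hr hfr).symm).pow_left n
      rw [← el_mul, ← el_mul]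
      rw [mul_inv_eq_iff_eq_mul, mul_assoc, hca.eq, ← mul_assoc] at h1
      exact mul_right_cancel (h1.trans (mul_assoc _ _ _).symm)
    · exact Or.inl (by simpa using hfr)
  rw [hq]
  interval_cases p2
  · exact Or.inl (by rw [el_zero, qL_one])
  · exact Or.inr (by rw [el_one])

theorem card_QL (T : Tri S a b) :
    Nat.card ↥(Subgroup.centralizer ({qL (a 0) z} : Set (QL (a 0)))) = 1152 := by
  classical
  set B := cx (Subgroup.centralizer ({z} : Set G)) (a 0) with hB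
  let f : B →* Subgroup.centralizer ({qL (a 0) z} : Set (QL (a 0))) :=
    { toFun := fun u => ⟨qL (a 0) u, Subgroup.mem_centralizer_singleton_iff.2
        ((T.qL_comm_z (mem_cx.1 u.2).2).2 (Subgroup.mem_centralizer_singleton_iff.1 (mem_cx.1 u.2).1)).eq⟩
      map_one' := Subtype.ext (by simp [qL_one])
      map_mul' := fun u v => Subtype.ext (qL_mul (mem_cx.1 u.2).2 (mem_cx.1 v.2).2) }
  have hsurj : Function.Surjective f := fun y => by
    obtain ⟨u, hu, hc, e⟩ := T.lift (Subgroup.mem_centralizer_singleton_iff.1 y.2)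
    exact ⟨⟨u, mem_cx.2 ⟨Subgroup.mem_centralizer_singleton_iff.2 hu, hc⟩⟩, Subtype.ext e⟩
  have hker : f.ker = (Subgroup.zpowers (a 0)).subgroupOf B := by
    ext u
    rw [MonoidHom.mem_ker, Subgroup.mem_subgroupOf, Subtype.ext_iff]
    show qL (a 0) (u : G) = 1 ↔ _
    rw [← qL_one (a 0), qL_eq (mem_cx.1 u.2).2 (by simp), mul_one, inv_mem_iff]
  have hle : Subgroup.zpowers (a 0) ≤ B := Subgroup.zpowers_le.2
    (mem_cx.2 ⟨Subgroup.mem_centralizer_singleton_iff.2 T.z_comm_a0.symm, rfl⟩)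
  have h1 := Subgroup.card_eq_card_quotient_mul_card_subgroup f.ker
  rw [Nat.card_congr (QuotientGroup.quotientKerEquivOfSurjective f hsurj).toEquiv, hker,
    Nat.card_congr (Subgroup.subgroupOfEquivOfLe hle).toEquiv, Nat.card_zpowers, T.orderOf_a0, T.card_cent] at h1
  omega

/-- The order of the centralizer of `z` and a noncentral involution of `Q`. -/
theorem card_zt (_T : Tri S a b) {t : G} (ht : NonCentral z Q t) :
    ¬ 3 ^ 2 ∣ Nat.card (cx (Subgroup.centralizer ({z} : Set G)) t) := by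
  have h54 : Nat.card {w : G // NonCentral z Q w} = 54 := by
    have : Function.Bijective (fun p : {p : Fin 128 // 2 ≤ p.val ∧ mulP K6 p.val p.val = 0} =>
        (⟨el S.code p.1.val, el_mem S.code _, by rw [el_mul, p.2.2, el_zero], fun e => by
            have := el_inj S.code p.1.2 (show (0 : ℕ) < 2 ^ (K6.n + 1) by norm_num) (e.trans (el_zero S.code).symm)
            have := p.2.1
            omega, fun e => by
            have := el_inj S.code p.1.2 (show (1 : ℕ) < 2 ^ (K6.n + 1) by simp [K6_n]) (e.trans (el_one S.code).symm)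
            have := p.2.1
            omega⟩ : {w : G // NonCentral z Q w})) := by
      refine ⟨fun p q e => Subtype.ext (Fin.ext (el_inj S.code p.1.2 q.1.2 (congrArg Subtype.val e))), ?_⟩
      rintro ⟨w, hwQ, hw2, hw1, hwz⟩
      obtain ⟨p, hp, rfl⟩ := exists_el S.code hwQ
      refine ⟨⟨⟨p, hp⟩, ?_, ?_⟩, rfl⟩
      · show 2 ≤ p
        by_contra hlt
        interval_cases p
        · exact hw1 (el_zero S.code)
        · exact hwz (el_one S.code)
      · refine el_inj S.code (mulP_lt hp hp) (Nat.two_pow_pos _) ?_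
        rw [← el_mul, hw2, el_zero]
    rw [← Nat.card_eq_of_bijective _ this, Nat.card_eq_fintype_card, card_noncentral]
  have h := card_of_orbit (Subgroup.centralizer ({z} : Set G)) (cx (Subgroup.centralizer ({z} : Set G)) t) t
    (fun w => NonCentral z Q w) (fun v => mem_cx) (fun w hw => by
      obtain ⟨c, hc, e⟩ := S.code.trans pair_ok ht hw
      exact ⟨c, Subgroup.mem_centralizer_singleton_iff.2 hc, e⟩) (fun v hv => by
      have hv' := Subgroup.mem_centralizer_singleton_iff.1 hv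
      refine ⟨S.code.ext.norm v hv' t ht.1, by rw [conj_mul, ht.2.1, mul_one, mul_inv_cancel],
        fun e => ht.2.2.1 (conj_eq_one_iff.1 e), fun e => ht.2.2.2 ?_⟩
      calc t = v⁻¹ * (v * t * v⁻¹) * v := by group
        _ = v⁻¹ * z * v := by rw [e]
        _ = z := by rw [comm_inv hv', inv_mul_cancel_right])
  rw [Setting.card_C S, h54] at h
  intro hd
  obtain ⟨m, hm⟩ := hd
  omega

/-- Some element centralizing the first rotation moves `z` to another member of `Q`. -/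
theorem moved (T : Tri S a b) : ∃ w, w * a 0 = a 0 * w ∧ w * z * w⁻¹ = el S.code 46 := by
  haveI : Fact (Nat.Prime 3) := ⟨Nat.prime_three⟩
  obtain ⟨hf, -, h2⟩ := swap_t
  set t := el S.code 46 with ht
  have hnc : NonCentral z Q t := ⟨el_mem S.code _, by rw [ht, el_mul, h2, el_zero], fun e => by
      have := el_inj S.code (x := 46) (y := 0) (by simp [K6_n]) (by simp) (e.trans (el_zero S.code).symm)
      omega, fun e => by
      have := el_inj S.code (x := 46) (y := 1) (by simp [K6_n]) (by simp [K6_n]) (e.trans (el_one S.code).symm)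
      omega⟩
  obtain ⟨k, hkz, hkt⟩ := Setting.exists_swap S hnc
  have hta : t * a 0 = a 0 * t := T.el_comm_a0 (by norm_num) hf
  have hza := T.z_comm_a0
  set D := cx (Subgroup.centralizer ({z} : Set G)) t with hD
  have haD : a 0 ∈ D := mem_cx.2 ⟨Subgroup.mem_centralizer_singleton_iff.2 hza.symm, hta.symm⟩
  have hx : k * a 0 * k⁻¹ ∈ D := by
    refine mem_cx.2 ⟨Subgroup.mem_centralizer_singleton_iff.2 ?_, ?_⟩
    · conv_lhs => rw [← hkt, conj_mul, ← hta]
      conv_rhs => rw [← hkt, conj_mul]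
    · conv_lhs => rw [← hkz, conj_mul, ← hza]
      conv_rhs => rw [← hkz, conj_mul]
  obtain ⟨d, hd, hdk⟩ := conj_of_part T.orderOf_a0 haD (by rw [orderOf_conj', T.orderOf_a0]) hx (T.card_zt hnc)
  obtain ⟨hdz, hdt⟩ := mem_cx.1 hd
  have hw : d * k * z * (d * k)⁻¹ = t := by
    rw [show d * k * z * (d * k)⁻¹ = d * (k * z * k⁻¹) * d⁻¹ by group, hkz, mul_inv_eq_iff_eq_mul]
    exact hdt
  have hwa : d * k * a 0 * (d * k)⁻¹ ∈ Subgroup.zpowers (a 0) := by
    rwa [show d * k * a 0 * (d * k)⁻¹ = d * (k * a 0 * k⁻¹) * d⁻¹ by group]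
  obtain ⟨i, hi, e⟩ := T.mem_zpowers_a0 hwa
  interval_cases i
  · exfalso
    rw [pow_zero, eq_comm, conj_eq_one_iff] at e
    have := T.orderOf_a0
    rw [e, orderOf_one] at this
    omega
  · exact ⟨d * k, (mul_inv_eq_iff_eq_mul.1 (by rw [← e, pow_one])), hw⟩
  · refine ⟨d * k * b 0, ?_, ?_⟩
    · have hb : b 0 * a 0 * (b 0)⁻¹ = a 0 * a 0 := by
        have := (T.prm_spec (show 6 < 24 by norm_num) (show 0 < 6 by norm_num)).2
        rw [T.rep_six.1, six_move.2.2, show el3 a (six 0) = a 0 from el3_single (i := 0) (by norm_num),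
          show el3 a (six 1) = a 0 ^ 2 from T.el3_small (show (2 : ℕ) < 3 by norm_num)] at this
        rw [this, pow_two]
      refine mul_inv_eq_iff_eq_mul.1 ?_
      rw [show d * k * b 0 * a 0 * (d * k * b 0)⁻¹ = d * k * (b 0 * a 0 * (b 0)⁻¹) * (d * k)⁻¹ by group, hb,
        ← conj_mul, ← e, ← pow_add]
      show a 0 ^ 4 = a 0
      rw [show 4 = 3 + 1 by norm_num, pow_succ, T.a3 0 (by norm_num), one_mul]
    · rw [← hw, show d * k * b 0 * z * (d * k * b 0)⁻¹ = d * k * (b 0 * z * (b 0)⁻¹) * (d * k)⁻¹ by group,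
        (T.hb 0 (by norm_num)).comm, mul_inv_cancel_right]

theorem inter_card (T : Tri S a b) {g : QL (a 0)} (hg : InQ T.xq T.yq (g * qL (a 0) z * g⁻¹))
    (hne : g * qL (a 0) z * g⁻¹ ≠ qL (a 0) z) :
    Nat.card {v : QL (a 0) // InQ T.xq T.yq v ∧ InQ T.xq T.yq (g⁻¹ * v * g)} = 4 := by
  classical
  obtain ⟨u, hua, rfl⟩ := qL_surj g
  have cu : Commute u (a 0) := hua
  have cz : Commute z (a 0) := T.z_comm_a0
  obtain ⟨p, hp, hfp, e⟩ := (T.inQ_iff _).1 hg
  set t := el S.code p with ht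
  have ct : Commute t (a 0) := T.el_comm_a0 hp hfp
  have htt : t * t = 1 := by
    have hne' : qL (a 0) (t * t) = qL (a 0) 1 := by
      rw [qL_mul ct ct, e, conj_mul, ← qL_mul cz cz, S.code.ext.zz, qL_one, mul_one, mul_inv_cancel]
    rw [ht, el_mul] at hne' ⊢
    rw [← el_zero S.code] at hne'
    have hfm : fx (mulP K6 p p) = true := (T.fx_iff (mulP_lt (K := K6) hp hp)).2 (by rw [← el_mul]; exact (ct.mul_left ct).eq)
    rw [T.qL_el_inj (mulP_lt (K := K6) hp hp) (by norm_num) hfm (by decide +kernel) hne', el_zero]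
  have hz2 : u * z * u⁻¹ * (u * z * u⁻¹) = 1 := by rw [conj_mul, S.code.ext.zz, mul_one, mul_inv_cancel]
  have hut : u * z * u⁻¹ = t := by
    have c1 : Commute (u * z * u⁻¹) (a 0) := (cu.mul_left cz).mul_left cu.inv_left
    rw [← T.qL_conj hua cz, qL_eq ct c1] at e
    obtain ⟨k, hk, ek⟩ := T.mem_zpowers_a0 e
    have e1 : u * z * u⁻¹ = t * a 0 ^ k := by rw [ek, mul_inv_cancel_left]
    rw [e1, (ct.pow_right k).symm.mul_mul_mul_comm t (a 0 ^ k), htt, one_mul, ← pow_add] at hz2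
    have := orderOf_dvd_of_pow_eq_one hz2
    rw [T.orderOf_a0] at this
    rw [e1, show k = 0 by omega, pow_zero, mul_one]
  have htz : t ≠ z := fun h => hne (by rw [← T.qL_conj hua cz, hut, h])
  have htQ : u * z * u⁻¹ ∈ Q := by rw [hut]; exact el_mem S.code p
  have hne2 : u * z * u⁻¹ ≠ z := hut ▸ htz
  have hzc : z ∈ Qc Q u := S.code.symm S.big htQ
  have htc : t ∈ Qc Q u := by
    rw [← hut, mem_Qc, show u⁻¹ * (u * z * u⁻¹) * u = z by group]; exact S.code.ext.mem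
  -- the four elements
  have mem4 : ∀ w, w ∈ Q → w ∈ Qc Q u → w = 1 ∨ w = z ∨ w = t ∨ w = t * z := by
    intro w hw hw'
    rcases S.code.dcases pair_ok htQ hne2 hw hw' with h | h
    · rcases (S.code.ker w hw).1 h with h | h <;> simp [h]
    · rw [hut] at h
      rcases (S.code.cd_eq_iff (el_mem S.code p) hw).1 h.symm with h | h <;> simp [h, ← ht]
  let F : {w : G // w ∈ Q ∧ w ∈ Qc Q u} → {v : QL (a 0) // InQ T.xq T.yq v ∧ InQ T.xq T.yq ((qL (a 0) u)⁻¹ * v * qL (a 0) u)} :=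
    fun w => ⟨qL (a 0) w.1, by
      have cw : Commute w.1 (a 0) := by
        rcases mem4 w.1 w.2.1 w.2.2 with h | h | h | h <;> rw [h]
        exacts [Commute.one_left _, cz, ct, ct.mul_left cz]
      constructor
      · obtain ⟨q, hq, hfq, he⟩ := T.exists_fx w.2.1 cw
        exact (T.inQ_iff _).2 ⟨q, hq, hfq, by rw [he]⟩
      · obtain ⟨q, hq, hfq, he⟩ := T.exists_fx (mem_Qc.1 w.2.2) ((cu.inv_left.mul_left cw).mul_left cu).eq
        exact (T.inQ_iff _).2 ⟨q, hq, hfq, by rw [he, qL_mul (cu.inv_left.mul_left cw) cu,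
          qL_mul cu.inv_left cw, qL_inv hua]⟩⟩
  have hF : Function.Bijective F := by
    constructor
    · rintro ⟨w, hw, hw'⟩ ⟨w', hw1, hw1'⟩ h
      have h := congrArg Subtype.val h
      have cm : ∀ x, x ∈ Q → x ∈ Qc Q u → Commute x (a 0) := fun x hx hx' => by
        rcases mem4 x hx hx' with h | h | h | h <;> rw [h]
        exacts [Commute.one_left _, cz, ct, ct.mul_left cz]
      obtain ⟨q, hq, hfq, rfl⟩ := T.exists_fx hw (cm _ hw hw')
      obtain ⟨q', hq', hfq', rfl⟩ := T.exists_fx hw1 (cm _ hw1 hw1')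
      exact Subtype.ext (congrArg (el S.code) (T.qL_el_inj hq hq' hfq hfq' h))
    · rintro ⟨v, h1, h2⟩
      obtain ⟨q, hq, hfq, rfl⟩ := (T.inQ_iff _).1 h1
      obtain ⟨q', hq', hfq', e'⟩ := (T.inQ_iff _).1 h2
      have cq : Commute (el S.code q) (a 0) := T.el_comm_a0 hq hfq
      have cq' : Commute (el S.code q') (a 0) := T.el_comm_a0 hq' hfq'
      have c2 : Commute (u⁻¹ * el S.code q * u) (a 0) := (cu.inv_left.mul_left cq).mul_left cu
      rw [← qL_inv hua, ← qL_mul cu.inv_left cq, ← qL_mul (cu.inv_left.mul_left cq) cu, qL_eq cq' c2] at e'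
      obtain ⟨k, hk, ek⟩ := T.mem_zpowers_a0 e'
      have e1 : u⁻¹ * el S.code q * u = el S.code q' * a 0 ^ k := by rw [ek, mul_inv_cancel_left]
      have hk0 : a 0 ^ k = 1 := by
        obtain ⟨j, hj⟩ := S.code.two ⟨_, el_mem S.code q⟩
        obtain ⟨j', hj'⟩ := S.code.two ⟨_, el_mem S.code q'⟩
        have hj1 : el S.code q ^ 2 ^ j = 1 := congrArg Subtype.val hj
        have hj1' : el S.code q' ^ 2 ^ j' = 1 := congrArg Subtype.val hj'
        have hA : (el S.code q' * a 0 ^ k) ^ 2 ^ (j + j') = 1 := by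
          rw [← e1, pow_add, pow_mul, show u⁻¹ * el S.code q * u = u⁻¹ * el S.code q * u⁻¹⁻¹ by rw [inv_inv],
            conj_pow, hj1]
          simp
        rw [(cq'.pow_right k).mul_pow, show el S.code q' ^ 2 ^ (j + j') = 1 by
          rw [add_comm, pow_add, pow_mul, hj1', one_pow], one_mul] at hA
        exact orderOf_eq_one_iff.1 (Nat.eq_one_of_dvd_coprimes (Nat.Coprime.pow_left _ (by norm_num : Nat.Coprime 2 3))
          (orderOf_dvd_of_pow_eq_one hA)
          (orderOf_dvd_of_pow_eq_one (by rw [← pow_mul, mul_comm, pow_mul, T.a3 0 (by norm_num), one_pow])))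
      rw [hk0, mul_one] at e1
      exact ⟨⟨el S.code q, el_mem S.code q, mem_Qc.2 (by rw [e1]; exact el_mem S.code q')⟩, Subtype.ext rfl⟩
  rw [← Nat.card_eq_of_bijective F hF]
  let P : Finset G := {1, z, t, t * z}
  have hP : Nat.card {w : G // w ∈ Q ∧ w ∈ Qc Q u} = P.card := by
    rw [← Nat.card_eq_finsetCard P]
    refine Nat.card_congr (Equiv.subtypeEquivRight fun w => ⟨fun h => by simpa [P] using mem4 w h.1 h.2, fun h => ?_⟩)
    simp only [P, Finset.mem_insert, Finset.mem_singleton] at h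
    rcases h with h | h | h | h <;> rw [h]
    exacts [⟨one_mem _, one_mem _⟩, ⟨S.code.ext.mem, hzc⟩, ⟨el_mem S.code p, htc⟩,
      ⟨mul_mem (el_mem S.code p) S.code.ext.mem, mul_mem htc hzc⟩]
  rw [hP]
  have ht1 : t ≠ 1 := hut ▸ S.code.conj_ne_one u
  have h3 : t * z ≠ 1 := fun h => htz (by rw [eq_inv_of_mul_eq_one_left h, S.code.zinv])
  have h4 : t * z ≠ z := fun h => ht1 (mul_eq_right.1 h)
  have h5 : t * z ≠ t := fun h => S.code.ne (mul_eq_left.1 h)
  simp [P, S.code.ne.symm, Ne.symm ht1, Ne.symm h3, Ne.symm h4, Ne.symm h5, htz.symm]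

/-- The quotient of the centralizer of the first rotation is of unitary type. -/
theorem raw (T : Tri S a b) : Raw (qL (a 0) z) T.xq T.yq where
  hx := T.stab_x
  hy := T.stab_y
  x12 := by rw [xq, tab_special.1, T.pr_z]
  y12 := by rw [yq, tab_special.2.1, T.pr_z]
  comm := fun i hi j hj => T.xy_comm hi hj
  sep := fun i hi j hj e => by
    obtain ⟨⟨h1, h2, h3⟩, -⟩ := tab_lt i hi
    obtain ⟨-, k1, k2, k3⟩ := tab_lt j hj
    obtain ⟨k, hk, e'⟩ := T.qL_pr_eq ⟨h1, h2⟩ ⟨k1, k2⟩ h3 k3 e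
    exact (tab_sep i hi j hj k hk).2.2 e'
  inC := fun i hi => ⟨(T.qL_comm_z (T.xt_spec hi).1).2 (T.pr_comm_z (tab_lt i hi).1.2.1),
    (T.qL_comm_z (T.xt_spec hi).2).2 (T.pr_comm_z (tab_lt i hi).2.2.1)⟩
  normK := fun h hh i hi j hj => by
    obtain ⟨u, hu, hc, rfl⟩ := T.lift hh
    obtain ⟨⟨i1, i2, -⟩, -⟩ := tab_lt i hi
    obtain ⟨-, -, j2, -⟩ := tab_lt j hj
    have hl := T.pm_lt (u := xt i) (v := yt j) ⟨i1, i2⟩ j2
    have hm : T.pr (xt i) * T.pr (yt j) = T.pr (pm (xt i) (yt j)) := T.pr_mul i2 j2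
    have hca := ((show Commute _ (a 0) from (T.xt_spec hi).1).mul_left (show Commute _ (a 0) from (T.xt_spec hj).2)).eq
    have hfx : fx (pm (xt i) (yt j)).1 = true := by
      refine (T.fx_iff hl.1).2 ?_
      have := hca
      rw [hm, pr] at this
      rw [show el S.code (pm (xt i) (yt j)).1 =
        el S.code (pm (xt i) (yt j)).1 * el3 a (pm (xt i) (yt j)).2 * (el3 a (pm (xt i) (yt j)).2)⁻¹ from
          (mul_inv_cancel_right _ _).symm]
      exact ((show Commute _ (a 0) from this).mul_left (show Commute _ (a 0) from T.el3_comm_a0 hl.2).inv_left).eq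
    obtain ⟨p', hp', n', hn', hfp', e⟩ := T.conj_form_pr hu hc hl.1 hfx hl.2
    obtain ⟨c, hcc, d, hd, e'⟩ := T.memK hp' hfp' hn'
    refine ⟨c, hcc, d, hd, ?_⟩
    rw [← e', ← e, T.qL_conj hc (T.pr_mem hl hfx), ← hm, qL_mul (T.xt_spec hi).1 (T.xt_spec hj).2]
    rfl
  normQ := fun h hh v hv => by
    obtain ⟨u, hu, hc, rfl⟩ := T.lift hh
    obtain ⟨p, hp, hfp, rfl⟩ := (T.inQ_iff v).1 hv
    obtain ⟨p', hp', hfp', e⟩ := T.conj_el hu hc hp hfp
    exact (T.inQ_iff _).2 ⟨p', hp', hfp', by rw [← e, T.qL_conj hc (T.el_comm_a0 hp hfp)]⟩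
  self := fun h hh hall => by
    obtain ⟨u, hu, hc, rfl⟩ := T.lift hh
    refine T.self_cent_Q hu hc fun p hp hfp => ?_
    obtain ⟨p', hp', hfp', e⟩ := T.conj_el hu hc hp hfp
    have h1 := hall _ ((T.inQ_iff _).2 ⟨p, hp, hfp, rfl⟩)
    have h2 : qL (a 0) (el S.code p') = qL (a 0) (el S.code p) := by
      rw [← e, T.qL_conj hc (T.el_comm_a0 hp hfp), h1.eq, mul_inv_cancel_right]
    rw [e, T.qL_el_inj hp' hp hfp' hfp h2]
  cardH := T.card_QL
  moved := by
    obtain ⟨hf, h46, -⟩ := swap_t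
    obtain ⟨w, hw, e⟩ := T.moved
    refine ⟨qL (a 0) w, (T.inQ_iff _).2 ⟨46, by norm_num, hf, by rw [← T.qL_conj hw T.z_comm_a0, e]⟩, ?_⟩
    rw [← T.qL_conj hw T.z_comm_a0, e]
    exact fun h => by
      have := T.qL_el_inj (p := 46) (p' := 1) (by norm_num) (by norm_num) hf (by decide +kernel)
        (h.trans (congrArg (qL (a 0)) (el_one S.code).symm))
      omega
  inter := fun g hg hne => T.inter_card hg hne

/-- The quotient is the unitary group. -/
theorem iso_psu (T : Tri S a b) (F : Type*) [Field F] [Fintype F] (hF : Fintype.card F = 9) :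
    Nonempty (QL (a 0) ≃* Cfsg.PSU 4 F 3) := by
  obtain ⟨e, C, W⟩ := T.raw.exists_cent
  obtain ⟨hG, f, hf, hadj⟩ := C.recognize W
  exact Cfsg.Agent.Spor.UFourType.iso_of_graph hG f hf hadj F hF

end Tri

end Cfsg.Agent.Invol.Suz.Loc.Three
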